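import Mathlib

/-!
# The finite unit groups of quaternion orders, as lists

Quaternions with coefficients in `ℤ[θ]`, `θ² = u θ + w`, written in doubled coordinates.
-/

set_option autoImplicit false

namespace CfsgLib.Derangements.PSL2

/-- A coefficient `a + b θ`. -/
abbrev Z2 : Type := ℤ × ℤ

/-- Four coefficients. -/
abbrev Z4 : Type := Z2 × Z2 × Z2 × Z2

/-- Multiplication of coefficients. -/
def zmul (u w : ℤ) (a b : Z2) : Z2 :=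
  (a.1 * b.1 + w * (a.2 * b.2), a.1 * b.2 + a.2 * b.1 + u * (a.2 * b.2))

/-- Addition of four coefficients. -/
def zsum (a b c d : Z2) : Z2 := (a.1 + b.1 + c.1 + d.1, a.2 + b.2 + c.2 + d.2)

/-- Negation of a coefficient. -/
def zneg (a : Z2) : Z2 := (-a.1, -a.2)

/-- The quaternion product. -/
def qmul (u w : ℤ) (p q : Z4) : Z4 :=
  (zsum (zmul u w p.1 q.1) (zneg (zmul u w p.2.1 q.2.1)) (zneg (zmul u w p.2.2.1 q.2.2.1))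
      (zneg (zmul u w p.2.2.2 q.2.2.2)),
   zsum (zmul u w p.1 q.2.1) (zmul u w p.2.1 q.1) (zmul u w p.2.2.1 q.2.2.2)
      (zneg (zmul u w p.2.2.2 q.2.2.1)),
   zsum (zmul u w p.1 q.2.2.1) (zneg (zmul u w p.2.1 q.2.2.2)) (zmul u w p.2.2.1 q.1)
      (zmul u w p.2.2.2 q.2.1),
   zsum (zmul u w p.1 q.2.2.2) (zmul u w p.2.1 q.2.2.1) (zneg (zmul u w p.2.2.1 q.2.1))
      (zmul u w p.2.2.2 q.1))

/-- Doubling. -/
def qdbl (p : Z4) : Z4 :=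
  ((2 * p.1.1, 2 * p.1.2), (2 * p.2.1.1, 2 * p.2.1.2), (2 * p.2.2.1.1, 2 * p.2.2.1.2),
    (2 * p.2.2.2.1, 2 * p.2.2.2.2))

/-- The doubled unit. -/
def qOne : Z4 := ((2, 0), (0, 0), (0, 0), (0, 0))

/-- The doubled `i`. -/
def qI2 : Z4 := ((0, 0), (2, 0), (0, 0), (0, 0))

/-- The doubled `j`. -/
def qJ2 : Z4 := ((0, 0), (0, 0), (2, 0), (0, 0))

/-- The doubled element of order three. -/
def qT2 : Z4 := ((-1, 0), (1, 0), (1, 0), (1, 0))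

/-- The doubled element of order eight. -/
def qS2 : Z4 := ((0, 1), (0, 1), (0, 0), (0, 0))

/-- The doubled element of order ten. -/
def qU2 : Z4 := ((0, 1), (-1, 1), (1, 0), (0, 0))

/-- The list is closed under right multiplication by the generators. -/
def qClosed (u w : ℤ) (L gens : List Z4) : Bool :=
  L.elem qOne && L.all fun a => gens.all fun g => (L.map qdbl).elem (qmul u w a g)

/-- The doubled coordinates of the 24 units. -/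
def listFour : List Z4 := [
  ((2, 0), (0, 0), (0, 0), (0, 0)), ((0, 0), (2, 0), (0, 0), (0, 0)),
  ((0, 0), (0, 0), (2, 0), (0, 0)), ((-1, 0), (1, 0), (1, 0), (1, 0)),
  ((-2, 0), (0, 0), (0, 0), (0, 0)), ((0, 0), (0, 0), (0, 0), (2, 0)),
  ((-1, 0), (-1, 0), (-1, 0), (1, 0)), ((0, 0), (0, 0), (0, 0), (-2, 0)),
  ((-1, 0), (1, 0), (-1, 0), (-1, 0)), ((-1, 0), (-1, 0), (1, 0), (-1, 0)),
  ((-1, 0), (-1, 0), (-1, 0), (-1, 0)), ((0, 0), (-2, 0), (0, 0), (0, 0)),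
  ((0, 0), (0, 0), (-2, 0), (0, 0)), ((1, 0), (-1, 0), (-1, 0), (-1, 0)),
  ((1, 0), (-1, 0), (1, 0), (1, 0)), ((1, 0), (-1, 0), (1, 0), (-1, 0)),
  ((1, 0), (1, 0), (-1, 0), (1, 0)), ((1, 0), (-1, 0), (-1, 0), (1, 0)),
  ((1, 0), (1, 0), (-1, 0), (-1, 0)), ((1, 0), (1, 0), (1, 0), (-1, 0)),
  ((1, 0), (1, 0), (1, 0), (1, 0)), ((-1, 0), (1, 0), (1, 0), (-1, 0)),
  ((-1, 0), (-1, 0), (1, 0), (1, 0)), ((-1, 0), (1, 0), (-1, 0), (1, 0))]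

/-- The doubled coordinates of the 48 units. -/
def listOct : List Z4 := [
  ((2, 0), (0, 0), (0, 0), (0, 0)), ((0, 0), (2, 0), (0, 0), (0, 0)),
  ((0, 0), (0, 0), (2, 0), (0, 0)), ((-1, 0), (1, 0), (1, 0), (1, 0)),
  ((0, 1), (0, 1), (0, 0), (0, 0)), ((-2, 0), (0, 0), (0, 0), (0, 0)),
  ((0, 0), (0, 0), (0, 0), (2, 0)), ((-1, 0), (-1, 0), (-1, 0), (1, 0)),
  ((0, -1), (0, 1), (0, 0), (0, 0)), ((0, 0), (0, 0), (0, 0), (-2, 0)),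
  ((-1, 0), (1, 0), (-1, 0), (-1, 0)), ((0, 0), (0, 0), (0, 1), (0, -1)),
  ((-1, 0), (-1, 0), (1, 0), (-1, 0)), ((-1, 0), (-1, 0), (-1, 0), (-1, 0)),
  ((0, -1), (0, 0), (0, 1), (0, 0)), ((0, 0), (0, 0), (0, 1), (0, 1)),
  ((0, -1), (0, 0), (0, 0), (0, 1)), ((0, 0), (-2, 0), (0, 0), (0, 0)),
  ((0, 0), (0, 0), (-2, 0), (0, 0)), ((1, 0), (-1, 0), (-1, 0), (-1, 0)),
  ((0, -1), (0, -1), (0, 0), (0, 0)), ((1, 0), (-1, 0), (1, 0), (1, 0)),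
  ((1, 0), (-1, 0), (1, 0), (-1, 0)), ((0, 0), (0, -1), (0, 0), (0, 1)),
  ((0, 0), (0, 0), (0, -1), (0, 1)), ((0, 0), (0, -1), (0, -1), (0, 0)),
  ((1, 0), (1, 0), (-1, 0), (1, 0)), ((0, 0), (0, 0), (0, -1), (0, -1)),
  ((1, 0), (-1, 0), (-1, 0), (1, 0)), ((0, -1), (0, 0), (0, -1), (0, 0)),
  ((0, 0), (0, 1), (0, -1), (0, 0)), ((1, 0), (1, 0), (-1, 0), (-1, 0)),
  ((0, 0), (0, -1), (0, 0), (0, -1)), ((0, -1), (0, 0), (0, 0), (0, -1)),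
  ((0, 0), (0, -1), (0, 1), (0, 0)), ((-1, 0), (-1, 0), (1, 0), (1, 0)),
  ((1, 0), (1, 0), (1, 0), (-1, 0)), ((0, 1), (0, -1), (0, 0), (0, 0)),
  ((1, 0), (1, 0), (1, 0), (1, 0)), ((0, 1), (0, 0), (0, -1), (0, 0)),
  ((0, 1), (0, 0), (0, 0), (0, -1)), ((-1, 0), (1, 0), (1, 0), (-1, 0)),
  ((0, 1), (0, 0), (0, 1), (0, 0)), ((0, 1), (0, 0), (0, 0), (0, 1)),
  ((0, 0), (0, 1), (0, 0), (0, 1)), ((-1, 0), (1, 0), (-1, 0), (1, 0)),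
  ((0, 0), (0, 1), (0, 0), (0, -1)), ((0, 0), (0, 1), (0, 1), (0, 0))]

set_option maxHeartbeats 2000000 in
/-- The doubled coordinates of the 120 units. -/
def listIco : List Z4 := [
  ((2, 0), (0, 0), (0, 0), (0, 0)), ((0, 0), (2, 0), (0, 0), (0, 0)),
  ((0, 0), (0, 0), (2, 0), (0, 0)), ((-1, 0), (1, 0), (1, 0), (1, 0)),
  ((0, 1), (-1, 1), (1, 0), (0, 0)), ((-2, 0), (0, 0), (0, 0), (0, 0)),
  ((0, 0), (0, 0), (0, 0), (2, 0)), ((-1, 0), (-1, 0), (-1, 0), (1, 0)),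
  ((1, -1), (0, 1), (0, 0), (1, 0)), ((0, 0), (0, 0), (0, 0), (-2, 0)),
  ((-1, 0), (1, 0), (-1, 0), (-1, 0)), ((-1, 0), (0, 0), (0, 1), (1, -1)),
  ((-1, 0), (-1, 0), (1, 0), (-1, 0)), ((-1, 0), (-1, 0), (-1, 0), (-1, 0)),
  ((0, -1), (0, 0), (-1, 1), (1, 0)), ((1, -1), (0, 1), (0, 0), (-1, 0)),
  ((-1, 0), (0, 0), (0, 1), (-1, 1)), ((0, -1), (1, 0), (0, 0), (-1, 1)),
  ((-1, 1), (1, 0), (0, 1), (0, 0)), ((0, 0), (-2, 0), (0, 0), (0, 0)),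
  ((0, 0), (0, 0), (-2, 0), (0, 0)), ((1, 0), (-1, 0), (-1, 0), (-1, 0)),
  ((0, -1), (1, -1), (-1, 0), (0, 0)), ((0, 0), (-1, 0), (-1, 1), (0, 1)),
  ((1, 0), (-1, 0), (1, 0), (1, 0)), ((1, 0), (-1, 0), (1, 0), (-1, 0)),
  ((0, 0), (0, -1), (-1, 0), (-1, 1)), ((0, -1), (1, -1), (1, 0), (0, 0)),
  ((0, 0), (-1, 0), (1, -1), (0, 1)), ((-1, 0), (0, -1), (1, -1), (0, 0)),
  ((-1, 0), (-1, 1), (0, 0), (0, 1)), ((1, 0), (1, 0), (-1, 0), (1, 0)),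
  ((0, 0), (1, 0), (1, -1), (0, -1)), ((1, 0), (-1, 0), (-1, 0), (1, 0)),
  ((1, -1), (1, 0), (0, -1), (0, 0)), ((0, 0), (-1, 0), (1, -1), (0, -1)),
  ((0, -1), (-1, 1), (-1, 0), (0, 0)), ((0, 0), (-1, 1), (0, -1), (-1, 0)),
  ((0, -1), (0, 0), (-1, 1), (-1, 0)), ((1, 0), (1, 0), (-1, 0), (-1, 0)),
  ((-1, 0), (1, -1), (0, 0), (0, -1)), ((0, 0), (1, -1), (0, -1), (-1, 0)),
  ((0, 0), (0, -1), (1, 0), (1, -1)), ((1, -1), (-1, 0), (0, -1), (0, 0)),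
  ((0, -1), (-1, 0), (0, 0), (-1, 1)), ((0, 0), (1, 0), (1, -1), (0, 1)),
  ((0, 0), (1, -1), (0, -1), (1, 0)), ((-1, 0), (0, 1), (1, -1), (0, 0)),
  ((0, 0), (-1, 0), (-1, 1), (0, -1)), ((1, -1), (0, 0), (-1, 0), (0, -1)),
  ((-1, 0), (0, -1), (-1, 1), (0, 0)), ((0, 0), (0, -1), (-1, 0), (1, -1)),
  ((0, -1), (0, 0), (1, -1), (1, 0)), ((-1, 0), (-1, 1), (0, 0), (0, -1)),
  ((1, -1), (1, 0), (0, 1), (0, 0)), ((1, 0), (1, 0), (1, 0), (-1, 0)),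
  ((-1, 1), (0, -1), (0, 0), (-1, 0)), ((1, 0), (0, 0), (0, -1), (-1, 1)),
  ((1, 0), (1, 0), (1, 0), (1, 0)), ((0, 1), (0, 0), (1, -1), (-1, 0)),
  ((-1, 1), (0, -1), (0, 0), (1, 0)), ((1, 0), (0, 0), (0, -1), (1, -1)),
  ((0, 1), (-1, 0), (0, 0), (1, -1)), ((1, 0), (0, 0), (0, 1), (1, -1)),
  ((1, -1), (0, -1), (0, 0), (-1, 0)), ((1, -1), (0, 0), (1, 0), (0, -1)),
  ((0, 0), (0, -1), (1, 0), (-1, 1)), ((-1, 0), (1, 0), (1, 0), (-1, 0)),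
  ((-1, 1), (-1, 0), (0, 1), (0, 0)), ((-1, 1), (0, 0), (1, 0), (0, -1)),
  ((0, 1), (0, 0), (-1, 1), (1, 0)), ((1, 0), (1, -1), (0, 0), (0, -1)),
  ((1, 0), (0, -1), (1, -1), (0, 0)), ((-1, 0), (0, 0), (0, -1), (1, -1)),
  ((-1, 1), (0, 0), (-1, 0), (0, -1)), ((0, -1), (-1, 0), (0, 0), (1, -1)),
  ((1, 0), (0, 0), (0, 1), (-1, 1)), ((0, 0), (1, -1), (0, 1), (-1, 0)),
  ((0, 1), (-1, 0), (0, 0), (-1, 1)), ((0, 1), (0, 0), (-1, 1), (-1, 0)),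
  ((1, -1), (-1, 0), (0, 1), (0, 0)), ((-1, 0), (1, -1), (0, 0), (0, 1)),
  ((-1, 0), (-1, 0), (1, 0), (1, 0)), ((1, 0), (-1, 1), (0, 0), (0, 1)),
  ((-1, 0), (0, 0), (0, -1), (-1, 1)), ((-1, 1), (0, 1), (0, 0), (1, 0)),
  ((-1, 1), (0, 0), (-1, 0), (0, 1)), ((0, 0), (0, 1), (-1, 0), (1, -1)),
  ((0, 1), (0, 0), (1, -1), (1, 0)), ((0, 0), (-1, 1), (0, -1), (1, 0)),
  ((-1, 1), (0, 1), (0, 0), (-1, 0)), ((0, 1), (1, 0), (0, 0), (-1, 1)),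
  ((1, -1), (0, -1), (0, 0), (1, 0)), ((1, -1), (0, 0), (-1, 0), (0, 1)),
  ((1, 0), (1, -1), (0, 0), (0, 1)), ((-1, 1), (1, 0), (0, -1), (0, 0)),
  ((0, -1), (0, 0), (1, -1), (-1, 0)), ((-1, 0), (1, 0), (-1, 0), (1, 0)),
  ((1, 0), (0, 1), (1, -1), (0, 0)), ((-1, 1), (-1, 0), (0, -1), (0, 0)),
  ((0, 1), (-1, 1), (-1, 0), (0, 0)), ((0, 1), (1, 0), (0, 0), (1, -1)),
  ((0, 1), (1, -1), (1, 0), (0, 0)), ((1, 0), (0, -1), (-1, 1), (0, 0)),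
  ((-1, 1), (0, 0), (1, 0), (0, 1)), ((1, 0), (-1, 1), (0, 0), (0, -1)),
  ((0, 0), (0, 1), (-1, 0), (-1, 1)), ((0, -1), (-1, 1), (1, 0), (0, 0)),
  ((0, 0), (0, 1), (1, 0), (1, -1)), ((0, 0), (1, 0), (-1, 1), (0, -1)),
  ((1, 0), (0, 1), (-1, 1), (0, 0)), ((0, 0), (1, 0), (-1, 1), (0, 1)),
  ((0, 0), (1, -1), (0, 1), (1, 0)), ((0, 0), (-1, 1), (0, 1), (1, 0)),
  ((0, 0), (-1, 1), (0, 1), (-1, 0)), ((0, 0), (0, 1), (1, 0), (-1, 1)),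
  ((0, 1), (1, -1), (-1, 0), (0, 0)), ((0, -1), (1, 0), (0, 0), (1, -1)),
  ((-1, 0), (0, 1), (-1, 1), (0, 0)), ((1, -1), (0, 0), (1, 0), (0, 1))]

set_option maxRecDepth 8000 in
theorem closed_four : qClosed 0 0 listFour [qI2, qJ2, qT2] = true := by decide +kernel

set_option maxRecDepth 8000 in
theorem closed_oct : qClosed 0 2 listOct [qI2, qJ2, qT2, qS2] = true := by decide +kernel

set_option maxRecDepth 8000 in
theorem closed_ico : qClosed 1 1 listIco [qI2, qJ2, qT2, qU2] = true := by decide +kernel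

theorem length_four : listFour.length = 24 := rfl
theorem length_oct : listOct.length = 48 := rfl
theorem length_ico : listIco.length = 120 := rfl

/-- The possible doubled traces in the octahedral list. -/
theorem oct_traces : ∀ r ∈ listOct,
    r.1 ∈ ([(0, 0), (1, 0), (-1, 0), (0, 1), (0, -1)] : List Z2) ∨ r = qOne ∨
      r = ((-2, 0), (0, 0), (0, 0), (0, 0)) := by decide +kernel

end CfsgLib.Derangements.PSL2
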