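import Mathlib

/-! Subgroups of small index in symmetric groups: index `n` subgroups are point stabilisers for `n ≠ 6`,
and the two kinds of index-six subgroups of `S₆`. -/

set_option autoImplicit false

namespace CfsgLib.Derangements

open MulAction Equiv
open scoped Pointwise

variable {Ω : Type*} [Fintype Ω] [DecidableEq Ω]

theorem lt_choose {n j : ℕ} (hj : 2 ≤ j) (hjn : j + 2 ≤ n) : n < n.choose j := by
  induction n generalizing j with
  | zero => omega
  | succ n ih =>
    rcases Nat.lt_or_ge (j + 1) n with h | h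
    · have h1 := ih hj (by omega)
      obtain ⟨i, rfl⟩ := Nat.exists_eq_succ_of_ne_zero (show j ≠ 0 by omega)
      rw [Nat.choose_succ_succ]
      have := Nat.choose_pos (show i ≤ n by omega)
      omega
    · obtain rfl : n = j + 1 := by omega
      rw [← Nat.choose_symm (by omega), show j + 1 + 1 - j = 2 by omega, Nat.choose_two_right]
      rw [Nat.lt_iff_add_one_le, Nat.le_div_iff_mul_le (by omega)]
      obtain ⟨i, rfl⟩ : ∃ i, j = i + 2 := ⟨j - 2, by omega⟩
      rw [show i + 2 + 1 + 1 - 1 = i + 3 by omega]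
      nlinarith

theorem perm_ne_one_of_commute {k : Perm Ω} (h3 : 3 ≤ Fintype.card Ω) (hk : ∀ g : Perm Ω, g * k = k * g) :
    k = 1 := by
  by_contra hne
  obtain ⟨a, ha⟩ : ∃ a, k a ≠ a := by
    by_contra h
    push Not at h
    exact hne (Equiv.ext h)
  obtain ⟨c, hc⟩ : ∃ c, c ∉ ({a, k a} : Finset Ω) := by
    by_contra h
    push Not at h
    have h2 := (Finset.card_le_card (fun x (_ : x ∈ Finset.univ) => h x)).trans Finset.card_le_two
    rw [Finset.card_univ] at h2; omega
  simp only [Finset.mem_insert, Finset.mem_singleton, not_or] at hc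
  have h := Equiv.Perm.ext_iff.mp (hk (swap (k a) c)) a
  simp [swap_apply_of_ne_of_ne (Ne.symm ha) (Ne.symm hc.1)] at h
  exact hc.2 h

/-- A proper subgroup other than the alternating group has index at least `n`, unless `n = 4`. -/
theorem normal_le_eq_bot (h5 : 5 ≤ Fintype.card Ω) (H : Subgroup (Perm Ω)) (hA : ¬ alternatingGroup Ω ≤ H)
    (K : Subgroup (Perm Ω)) [K.Normal] (hKH : K ≤ H) : K = ⊥ := by
  have hs : IsSimpleGroup (alternatingGroup Ω) :=
    alternatingGroup.isSimpleGroup (by rw [Nat.card_eq_fintype_card]; exact h5)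
  rcases IsSimpleGroup.eq_bot_or_eq_top_of_normal (K.subgroupOf (alternatingGroup Ω)) inferInstance with h | h
  · rw [Subgroup.subgroupOf_eq_bot, disjoint_iff] at h
    rw [eq_bot_iff]
    intro k hk
    refine perm_ne_one_of_commute (by omega) fun g => ?_
    have hm : g * k * g⁻¹ * k⁻¹ ∈ K ⊓ alternatingGroup Ω := by
      refine ⟨K.mul_mem (Subgroup.Normal.conj_mem ‹_› k hk g) (K.inv_mem hk), ?_⟩
      rcases Int.units_eq_one_or (Perm.sign g) with hg | hg <;>
        rcases Int.units_eq_one_or (Perm.sign k) with hk | hk <;>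
          simp [Equiv.Perm.mem_alternatingGroup, hg, hk]
    rw [h, Subgroup.mem_bot, mul_inv_eq_one, mul_inv_eq_iff_eq_mul] at hm
    exact hm
  · exact absurd ((Subgroup.subgroupOf_eq_top.mp h).trans hKH) hA

theorem card_le_index (h4 : Fintype.card Ω ≠ 4) (H : Subgroup (Perm Ω)) (hH : H ≠ ⊤)
    (hA : H ≠ alternatingGroup Ω) : Fintype.card Ω ≤ H.index := by
  have h0 : H.index ≠ 0 := Subgroup.index_ne_zero_of_finite
  have h1 : H.index ≠ 1 := fun h => hH (Subgroup.index_eq_one.mp h)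
  have h2 : H.index ≠ 2 := fun h => hA (Equiv.Perm.eq_alternatingGroup_of_index_eq_two h)
  rcases Nat.lt_or_ge (Fintype.card Ω) 5 with h5 | h5
  · omega
  by_contra hlt
  have hnA : ¬ alternatingGroup Ω ≤ H := by
    intro hle
    have : Nontrivial Ω := Fintype.one_lt_card_iff_nontrivial.mp (by omega)
    have := Nat.le_of_dvd (by norm_num) (alternatingGroup.index_eq_two (α := Ω) ▸ Subgroup.index_dvd_of_le hle)
    omega
  have hK : H.normalCore = ⊥ := normal_le_eq_bot h5 H hnA _ (Subgroup.normalCore_le H)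
  rw [Subgroup.normalCore_eq_ker, MonoidHom.ker_eq_bot_iff] at hK
  have := Nat.card_le_card_of_injective _ hK
  rw [Nat.card_perm, Nat.card_perm, Nat.card_eq_fintype_card, ← Subgroup.index] at this
  exact absurd this (not_le.mpr ((Nat.factorial_lt (by omega)).mpr (by omega)))

theorem eq_stabilizer_of_not_pretransitive (H : Subgroup (Perm Ω)) (hH : H.index = Fintype.card Ω)
    (hnt : ¬ IsPretransitive H Ω) : ∃ x : Ω, H = stabilizer (Perm Ω) x := by
  have : Nonempty Ω := by
    by_contra hne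
    rw [not_nonempty_iff] at hne
    exact hnt ⟨fun x => isEmptyElim x⟩
  have hfix : ∀ x : Ω, H ≤ stabilizer (Perm Ω) x → H = stabilizer (Perm Ω) x := by
    intro x hle
    refine le_antisymm hle (fun g hg => ?_)
    have h1 : (stabilizer (Perm Ω) x).index = Fintype.card Ω := by
      rw [index_stabilizer_of_transitive, Nat.card_eq_fintype_card]
    have h2 : H.relIndex (stabilizer (Perm Ω) x) = 1 := by
      have := Subgroup.relIndex_mul_index hle
      rw [h1, hH] at this
      exact (Nat.mul_eq_right (Fintype.card_ne_zero)).mp this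
    exact Subgroup.relIndex_eq_one.mp h2 hg
  obtain ⟨a⟩ := ‹Nonempty Ω›
  set O : Set Ω := orbit H a with hO
  have hstab : ∀ h ∈ H, ∀ y ∈ O, h y ∈ O := by
    rintro h hh _ ⟨h', rfl⟩
    exact ⟨⟨h, hh⟩ * h', rfl⟩
  have hOne : O ≠ Set.univ := by
    intro hu
    refine hnt ⟨fun x y => ?_⟩
    obtain ⟨g, hg⟩ := (hu ▸ Set.mem_univ x : x ∈ O)
    obtain ⟨g', hg'⟩ := (hu ▸ Set.mem_univ y : y ∈ O)
    exact ⟨g' * g⁻¹, by rw [← hg, ← hg', mul_smul, inv_smul_smul]⟩
  by_cases h1 : O.ncard = 1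
  · obtain ⟨b, hb⟩ := Set.ncard_eq_one.mp h1
    refine ⟨a, hfix a fun h hh => ?_⟩
    have ha : a ∈ O := mem_orbit_self a
    have hha := hstab h hh a ha
    rw [hb, Set.mem_singleton_iff] at ha hha
    exact (hha.trans ha.symm : h a = a)
  by_cases h2 : Oᶜ.ncard = 1
  · obtain ⟨b, hb⟩ := Set.ncard_eq_one.mp h2
    refine ⟨b, hfix b fun h hh => ?_⟩
    have hbO : b ∈ Oᶜ := hb ▸ rfl
    have : h b ∈ Oᶜ := fun hin => hbO (by simpa using hstab h⁻¹ (inv_mem hh) _ hin)
    rw [hb] at this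
    exact this
  exfalso
  have hO0 : 0 < O.ncard := (Set.ncard_pos (Set.toFinite _)).mpr ⟨a, mem_orbit_self a⟩
  have hOc : 0 < Oᶜ.ncard := (Set.ncard_pos (Set.toFinite _)).mpr (Set.nonempty_compl.mpr hOne)
  have hsum := Set.ncard_add_ncard_compl O
  rw [Nat.card_eq_fintype_card] at hsum
  let s : Set.powersetCard Ω O.ncard := ⟨O.toFinite.toFinset, by
    show O.toFinite.toFinset.card = _
    rw [Set.ncard_eq_toFinset_card O]⟩
  have hle : H ≤ stabilizer (Perm Ω) s := by
    intro h hh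
    rw [Set.powersetCard.stabilizer_coe, mem_stabilizer_set]
    intro y
    change h y ∈ (O.toFinite.toFinset : Set Ω) ↔ y ∈ (O.toFinite.toFinset : Set Ω)
    rw [Set.Finite.coe_toFinset]
    exact ⟨fun hy => by simpa using hstab h⁻¹ (inv_mem hh) _ hy, hstab h hh y⟩
  have hd := Subgroup.index_dvd_of_le hle
  have := Set.powersetCard.isPretransitive (α := Ω) (n := O.ncard)
  rw [index_stabilizer_of_transitive, Set.powersetCard.card, Nat.card_eq_fintype_card, hH] at hd
  exact absurd (Nat.le_of_dvd (by omega) hd) (not_le.mpr (lt_choose (by omega) (by omega)))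

/-- Products of two conjugates of a transposition have order at most three. -/
def HasShortProducts (t : Perm Ω) : Prop :=
  ∀ g : Perm Ω, (t * (g * t * g⁻¹)) ^ 2 = 1 ∨ (t * (g * t * g⁻¹)) ^ 3 = 1

theorem shortProducts_swap (a b : Ω) : HasShortProducts (swap a b) := by
  intro g
  rw [show g * swap a b * g⁻¹ = swap (g a) (g b) by simp [Equiv.mul_swap_eq_swap_mul]]
  rcases eq_or_ne a b with rfl | hab
  · left; rw [swap_self, swap_self]; rfl
  generalize hx : g a = x
  generalize hy : g b = y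
  have hxy : x ≠ y := hx ▸ hy ▸ g.injective.ne hab
  have h3 : ∀ p q r : Ω, p ≠ q → p ≠ r → q ≠ r → (swap p q * swap p r) ^ 3 = 1 := by
    intro p q r h1 h2 h3
    rw [← (Equiv.Perm.isThreeCycle_swap_mul_swap_same h1 h2 h3).orderOf]
    exact pow_orderOf_eq_one _
  by_cases hxa : x = a
  · subst hxa
    by_cases hyb : y = b
    · subst hyb; left; simp [sq]
    · right; exact h3 _ _ _ hab hxy (Ne.symm hyb)
  by_cases hxb : x = b
  · subst hxb
    by_cases hya : y = a
    · subst hya; left; simp [sq, swap_comm]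
    · right; rw [swap_comm a x]; exact h3 _ _ _ (Ne.symm hab) hxy (Ne.symm hya)
  by_cases hya : y = a
  · subst hya
    right; rw [swap_comm x y]; exact h3 _ _ _ hab (Ne.symm hxy) (Ne.symm hxb)
  by_cases hyb : y = b
  · subst hyb
    right; rw [swap_comm a y, swap_comm x y]; exact h3 _ _ _ (Ne.symm hab) (Ne.symm hxy) (Ne.symm hxa)
  left
  have hc : Commute (swap a b) (swap x y) := Perm.Disjoint.commute (by
    intro z
    by_cases hz : z = a ∨ z = b
    · right
      rcases hz with rfl | rfl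
      · exact swap_apply_of_ne_of_ne (Ne.symm hxa) (Ne.symm hya)
      · exact swap_apply_of_ne_of_ne (Ne.symm hxb) (Ne.symm hyb)
    · push Not at hz
      exact Or.inl (swap_apply_of_ne_of_ne hz.1 hz.2))
  rw [hc.mul_pow]; simp [sq]

theorem HasShortProducts.map {Ω' : Type*} [Fintype Ω'] [DecidableEq Ω'] {t : Perm Ω} (ht : HasShortProducts t)
    (φ : Perm Ω →* Perm Ω') (hφ : Function.Surjective φ) : HasShortProducts (φ t) := by
  intro g
  obtain ⟨g', rfl⟩ := hφ g
  rw [← map_inv, ← map_mul, ← map_mul, ← map_mul, ← map_pow, ← map_pow]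
  rcases ht g' with h | h <;> simp [h]

/-- An involution with short products is a transposition, or is fixed-point-free on six points. -/
theorem shortProducts_cases (h5 : 5 ≤ Fintype.card Ω) {t : Perm Ω} (hs : HasShortProducts t)
    (h1 : t ≠ 1) (h2 : t * t = 1) : t.IsSwap ∨ (Fintype.card Ω = 6 ∧ ∀ x, t x ≠ x) := by
  have inv : ∀ x, t (t x) = x := fun x => Equiv.Perm.ext_iff.mp h2 x
  by_contra hcon
  push Not at hcon
  obtain ⟨hns, h6⟩ := hcon
  obtain ⟨a1, ha1⟩ : ∃ a, t a ≠ a := by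
    by_contra h
    push Not at h
    exact h1 (Equiv.ext h)
  obtain ⟨a3, ha31, ha32, ha3⟩ : ∃ a, a ≠ a1 ∧ a ≠ t a1 ∧ t a ≠ a := by
    by_contra h
    push Not at h
    refine hns ⟨a1, t a1, Ne.symm ha1, Equiv.ext fun x => ?_⟩
    by_cases e1 : x = a1
    · subst e1; simp
    by_cases e2 : x = t a1
    · subst e2; simp [inv]
    rw [swap_apply_of_ne_of_ne e1 e2]
    exact h x e1 e2
  have key : ∀ σ : Perm Ω, ∀ p q r : Ω, σ p = q → t p = r → (t * (σ * t * σ⁻¹)) q = t (σ r) := by
    rintro σ p q r rfl rfl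
    simp
  set a2 := t a1 with hta1
  set a4 := t a3 with hta3
  have ht2 : t a2 = a1 := inv a1
  have ht4 : t a4 = a3 := inv a3
  have n21 : a2 ≠ a1 := ha1
  have n31 : a3 ≠ a1 := ha31
  have n32 : a3 ≠ a2 := ha32
  have n43 : a4 ≠ a3 := ha3
  have n41 : a4 ≠ a1 := fun h => n32 (by rw [← ht4, h, hta1])
  have n42 : a4 ≠ a2 := fun h => n31 (by rw [← ht4, h, ht2])
  by_cases hf : ∃ a5, t a5 = a5
  · obtain ⟨a5, ht5⟩ := hf
    have n51 : a5 ≠ a1 := fun h => n21 (by rw [hta1, ← h, ht5])
    have n52 : a5 ≠ a2 := fun h => n21 (by rw [← ht2, ← h, ht5, h])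
    have n53 : a5 ≠ a3 := fun h => n43 (by rw [hta3, ← h, ht5])
    have n54 : a5 ≠ a4 := fun h => n43 (by rw [← ht4, ← h, ht5, h])
    set σ : Perm Ω := swap a1 a2 * swap a2 a3 * swap a3 a4 * swap a4 a5 with hσ
    have s1 : σ a1 = a2 := by simp [hσ, swap_apply_of_ne_of_ne, (Ne.symm n21), (Ne.symm n31), (Ne.symm n41), (Ne.symm n51)]
    have s2 : σ a2 = a3 := by simp [hσ, swap_apply_of_ne_of_ne, (Ne.symm n32), (Ne.symm n42), (Ne.symm n52), n31, n32]
    have s3 : σ a3 = a4 := by simp [hσ, swap_apply_of_ne_of_ne, (Ne.symm n43), (Ne.symm n53), n41, n42, n43]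
    have s4 : σ a4 = a5 := by simp [hσ, swap_apply_of_ne_of_ne, (Ne.symm n54), n51, n52, n53, n54]
    have s5 : σ a5 = a1 := by simp [hσ, swap_apply_of_ne_of_ne, n54, n43, n41, n42, n32, n21]
    set P := t * (σ * t * σ⁻¹) with hP
    have p1 : P a1 = a2 := by rw [key σ a5 a1 a5 s5 ht5, s5]
    have p2 : P a2 = a4 := by rw [key σ a1 a2 a2 s1 hta1.symm, s2]
    have p4 : P a4 = a5 := by rw [key σ a3 a4 a4 s3 hta3.symm, s4, ht5]
    rcases hs σ with h | h <;> have := Equiv.Perm.ext_iff.mp h a1 <;>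
      simp only [← hP, pow_succ, pow_zero, one_mul, Perm.mul_apply, p1, p2, p4, Perm.one_apply] at this
    · exact n41 this
    · exact n51 this
  push Not at hf
  have heven : ∀ S : Finset Ω, S.card < Fintype.card Ω → ∃ x, x ∉ S := by
    intro S hS
    by_contra h
    push Not at h
    exact absurd (Finset.card_le_card (fun x (_ : x ∈ Finset.univ) => h x)) (by rw [Finset.card_univ]; omega)
  have hcard : 8 ≤ Fintype.card Ω := by
    have hev : Even (Fintype.card Ω) := by
      have hz : t ^ 2 = 1 := by rw [sq, h2]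
      have h := Equiv.Perm.cycleType_of_pow_prime_eq_one (p := 2) hz
      have hsum := t.sum_cycleType
      rw [h, Multiset.sum_replicate, show t.support = Finset.univ from
        Finset.eq_univ_iff_forall.mpr fun x => Perm.mem_support.mpr (hf x), Finset.card_univ, smul_eq_mul] at hsum
      exact ⟨Multiset.card t.cycleType, by omega⟩
    obtain ⟨k, hk⟩ := hev
    have : Fintype.card Ω ≠ 6 := fun h => by
      obtain ⟨x, hx⟩ := h6 h
      exact hf x hx
    omega
  obtain ⟨a5, ha5⟩ := heven {a1, a2, a3, a4} (by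
    have : ({a1, a2, a3, a4} : Finset Ω).card ≤ 4 := Finset.card_le_four
    omega)
  set a6 := t a5 with hta5
  obtain ⟨a7, ha7⟩ := heven {a1, a2, a3, a4, a5, a6} (by
    have : ({a1, a2, a3, a4, a5, a6} : Finset Ω).card ≤ 6 := Finset.card_le_six
    omega)
  set a8 := t a7 with hta7
  simp only [Finset.mem_insert, Finset.mem_singleton, not_or] at ha5 ha7
  obtain ⟨n51, n52, n53, n54⟩ := ha5
  obtain ⟨n71, n72, n73, n74, n75, n76⟩ := ha7
  have ht6 : t a6 = a5 := inv a5
  have ht8 : t a8 = a7 := inv a7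
  have n65 : a6 ≠ a5 := hf a5
  have n87 : a8 ≠ a7 := hf a7
  have n61 : a6 ≠ a1 := fun h => n52 (by rw [← ht6, h, hta1])
  have n62 : a6 ≠ a2 := fun h => n51 (by rw [← ht6, h, ht2])
  have n63 : a6 ≠ a3 := fun h => n54 (by rw [← ht6, h, hta3])
  have n64 : a6 ≠ a4 := fun h => n53 (by rw [← ht6, h, ht4])
  have n81 : a8 ≠ a1 := fun h => n72 (by rw [← ht8, h, hta1])
  have n82 : a8 ≠ a2 := fun h => n71 (by rw [← ht8, h, ht2])
  have n83 : a8 ≠ a3 := fun h => n74 (by rw [← ht8, h, hta3])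
  have n84 : a8 ≠ a4 := fun h => n73 (by rw [← ht8, h, ht4])
  have n85 : a8 ≠ a5 := fun h => n76 (by rw [← ht8, h, hta5])
  have n86 : a8 ≠ a6 := fun h => n75 (by rw [← ht8, h, ht6])
  set σ : Perm Ω := swap a1 a2 * swap a2 a3 * swap a3 a4 * swap a4 a5 * swap a5 a6 * swap a6 a7 * swap a7 a8 with hσ
  have s8 : σ a8 = a1 := by simp [hσ, swap_apply_of_ne_of_ne, n87, n86, n85, n84, n83, n82, n81, n76, n65, n54, n43, n32, n21,
    n74, n75, n64, n63, n53, n52, n42, n41, n31]
  have s7 : σ a7 = a8 := by simp [hσ, swap_apply_of_ne_of_ne, n87, n86, n85, n84, n83, n82, n81]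
  have s6 : σ a6 = a7 := by simp [hσ, swap_apply_of_ne_of_ne, (Ne.symm n86), (Ne.symm n76), n71, n72, n73, n74, n75, n76]
  have s5 : σ a5 = a6 := by simp [hσ, swap_apply_of_ne_of_ne, (Ne.symm n85), (Ne.symm n75), (Ne.symm n65), n61, n62, n63, n64, n65]
  have s4 : σ a4 = a5 := by simp [hσ, swap_apply_of_ne_of_ne, (Ne.symm n84), (Ne.symm n74), (Ne.symm n64), (Ne.symm n54), n51, n52, n53, n54]
  have s3 : σ a3 = a4 := by simp [hσ, swap_apply_of_ne_of_ne, (Ne.symm n83), (Ne.symm n73), (Ne.symm n63), (Ne.symm n53), (Ne.symm n43), n41, n42, n43]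
  set P := t * (σ * t * σ⁻¹) with hP
  have p1 : P a1 = a7 := by rw [key σ a8 a1 a7 s8 ht8, s7, ht8]
  have p7 : P a7 = a5 := by rw [key σ a6 a7 a5 s6 ht6, s5, ht6]
  have p5 : P a5 = a3 := by rw [key σ a4 a5 a3 s4 ht4, s3, ht4]
  rcases hs σ with h | h <;> have := Equiv.Perm.ext_iff.mp h a1 <;>
    simp only [← hP, pow_succ, pow_zero, one_mul, Perm.mul_apply, p1, p7, p5, Perm.one_apply] at this
  · exact n51 this
  · exact n31 this

theorem swap_map_isSwap (φ : Perm Ω →* Perm Ω) {s : Perm Ω} (hs : s.IsSwap) (hφs : (φ s).IsSwap)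
    {g : Perm Ω} (hg : g.IsSwap) : (φ g).IsSwap := by
  obtain ⟨a, b, hab, rfl⟩ := hs
  obtain ⟨c, d, hcd, rfl⟩ := hg
  obtain ⟨x, y, hxy, hx⟩ := hφs
  obtain ⟨h, hh⟩ := isConj_iff.mp (Equiv.Perm.isConj_swap hab hcd)
  refine ⟨φ h x, φ h y, (φ h).injective.ne hxy, ?_⟩
  rw [← hh, map_mul, map_mul, map_inv, hx, Equiv.mul_swap_eq_swap_mul, mul_inv_cancel_right]

theorem preimage_isSwap (φ : Perm Ω →* Perm Ω) (hφ : Function.Bijective φ) {s : Perm Ω} (hs : s.IsSwap)
    (hφs : (φ s).IsSwap) {g : Perm Ω} (hg : (φ g).IsSwap) : g.IsSwap := by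
  obtain ⟨a, b, hab, rfl⟩ := hs
  obtain ⟨x, y, hxy, hx⟩ := hφs
  obtain ⟨c, d, hcd, hc⟩ := hg
  obtain ⟨h', hh⟩ := isConj_iff.mp (Equiv.Perm.isConj_swap hxy hcd)
  obtain ⟨h, rfl⟩ := hφ.2 h'
  refine ⟨h a, h b, h.injective.ne hab, hφ.1 ?_⟩
  rw [hc, ← hh, ← hx, ← map_inv, ← map_mul, ← map_mul, Equiv.mul_swap_eq_swap_mul, mul_inv_cancel_right]

/-- The preimage of a point stabiliser under a transposition-preserving automorphism is a point stabiliser. -/
theorem preimage_stabilizer (h3 : 3 ≤ Fintype.card Ω) (φ : Perm Ω →* Perm Ω) (hφ : Function.Bijective φ)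
    {s : Perm Ω} (hs : s.IsSwap) (hφs : (φ s).IsSwap) (b : Ω) :
    ∃ x : Ω, (stabilizer (Perm Ω) b).comap φ = stabilizer (Perm Ω) x := by
  set H := (stabilizer (Perm Ω) b).comap φ with hHdef
  have hidx : H.index = Fintype.card Ω := by
    rw [hHdef, Subgroup.index_comap_of_surjective _ hφ.2, index_stabilizer_of_transitive, Nat.card_eq_fintype_card]
  refine eq_stabilizer_of_not_pretransitive H hidx fun htr => ?_
  let S : Set (Perm Ω) := {g | g.IsSwap ∧ φ g b = b}
  have hcl : H ≤ Subgroup.closure S := by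
    intro g hg
    have hgb : φ g b = b := hg
    have hmem : φ g ∈ Subgroup.closure {σ : Perm Ω | σ.IsSwap ∧ σ b = b} := by
      have hiff : ∀ x, x ≠ b ↔ φ g x ≠ b := fun x =>
        ⟨fun hx h => hx ((φ g).injective (h.trans hgb.symm)), fun h hx => h (hx ▸ hgb)⟩
      let u : Perm {x // x ≠ b} := (φ g).subtypePerm (fun x => (hiff x).symm)
      have hu : Perm.ofSubtype u = φ g := Perm.ofSubtype_subtypePerm _ (fun x hx h => hx (h ▸ hgb))
      rw [← hu]
      have : u ∈ Subgroup.closure {σ : Perm {x // x ≠ b} | σ.IsSwap} := by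
        rw [Equiv.Perm.closure_isSwap]; exact Subgroup.mem_top _
      refine (Subgroup.closure_le ((Subgroup.closure {σ : Perm Ω | σ.IsSwap ∧ σ b = b}).comap
        Perm.ofSubtype)).mpr ?_ this
      rintro σ hσ
      exact Subgroup.subset_closure ⟨Equiv.Perm.IsSwap.of_subtype_isSwap hσ,
        Perm.ofSubtype_apply_of_not_mem σ (by simp)⟩
    have : Subgroup.closure {σ : Perm Ω | σ.IsSwap ∧ σ b = b} ≤ (Subgroup.closure S).map φ := by
      rw [Subgroup.closure_le]
      rintro σ ⟨hσ, hσb⟩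
      obtain ⟨σ', rfl⟩ := hφ.2 σ
      exact ⟨σ', Subgroup.subset_closure ⟨preimage_isSwap φ hφ hs hφs hσ, hσb⟩, rfl⟩
    obtain ⟨g', hg', hgg⟩ := this hmem
    rwa [hφ.1 hgg] at hg'
  have hle : Subgroup.closure S ≤ H := (Subgroup.closure_le H).mpr fun g hg => hg.2
  have hHtop : H = ⊤ := by
    rw [le_antisymm hcl hle] at htr ⊢
    exact _root_.closure_of_isSwap_of_isPretransitive (S := S) fun σ hσ => hσ.1
  rw [hHtop, Subgroup.index_top] at hidx
  omega

/-- An index-`n` subgroup is the preimage of a point stabiliser under an automorphism of the symmetric group. -/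
theorem exists_auto (h5 : 5 ≤ Fintype.card Ω) (H : Subgroup (Perm Ω)) (hH : H.index = Fintype.card Ω) :
    ∃ φ : Perm Ω →* Perm Ω, Function.Bijective φ ∧ ∃ b : Ω, (stabilizer (Perm Ω) b).comap φ = H := by
  have hnA : ¬ alternatingGroup Ω ≤ H := by
    intro hle
    have : Nontrivial Ω := Fintype.one_lt_card_iff_nontrivial.mp (by omega)
    have := Nat.le_of_dvd (by norm_num) (alternatingGroup.index_eq_two (α := Ω) ▸ Subgroup.index_dvd_of_le hle)
    omega
  have hK : H.normalCore = ⊥ := normal_le_eq_bot h5 H hnA _ (Subgroup.normalCore_le H)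
  rw [Subgroup.normalCore_eq_ker, MonoidHom.ker_eq_bot_iff] at hK
  let e : (Perm Ω ⧸ H) ≃ Ω := (Finite.card_eq.mp (by
    rw [← Subgroup.index, hH, Nat.card_eq_fintype_card])).some
  let φ : Perm Ω →* Perm Ω := e.permCongrHom.toMonoidHom.comp (MulAction.toPermHom (Perm Ω) (Perm Ω ⧸ H))
  have hφi : Function.Injective φ := e.permCongrHom.injective.comp hK
  refine ⟨φ, Finite.injective_iff_bijective.mp hφi, e ((1 : Perm Ω) : Perm Ω ⧸ H), ?_⟩
  ext g
  simp only [Subgroup.mem_comap, MulAction.mem_stabilizer_iff]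
  show e.permCongr (MulAction.toPerm g) (e _) = e _ ↔ _
  rw [Equiv.permCongr_apply, e.symm_apply_apply, e.apply_eq_iff_eq, MulAction.toPerm_apply,
    ← MulAction.mem_stabilizer_iff, MulAction.stabilizer_quotient]

theorem involution_of_swap (φ : Perm Ω →* Perm Ω) (hφ : Function.Bijective φ) {s : Perm Ω} (hs : s.IsSwap) :
    φ s ≠ 1 ∧ φ s * φ s = 1 ∧ HasShortProducts (φ s) := by
  obtain ⟨a, b, hab, rfl⟩ := hs
  refine ⟨fun h => hab ?_, ?_, (shortProducts_swap a b).map φ hφ.2⟩
  · have : swap a b = 1 := hφ.1 (by rw [h, map_one])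
    simpa using this
  · rw [← map_mul, swap_mul_self, map_one]

theorem eq_stabilizer_of_index_eq (h6 : Fintype.card Ω ≠ 6) (H : Subgroup (Perm Ω))
    (hH : H.index = Fintype.card Ω) : ∃ x : Ω, H = stabilizer (Perm Ω) x := by
  rcases Nat.lt_or_ge (Fintype.card Ω) 5 with h5 | h5
  · rcases Nat.lt_or_ge (Fintype.card Ω) 2 with h2 | h2
    · have hpos : H.index ≠ 0 := Subgroup.index_ne_zero_of_finite
      have htop : H = ⊤ := Subgroup.index_eq_one.mp (by omega)
      have hne : Nonempty Ω := Fintype.card_pos_iff.mp (by omega)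
      obtain ⟨x⟩ := hne
      have : Subsingleton Ω := Fintype.card_le_one_iff_subsingleton.mp (by omega)
      exact ⟨x, htop.trans (eq_top_iff.mpr fun g _ => Subsingleton.elim _ _).symm⟩
    refine eq_stabilizer_of_not_pretransitive H hH fun htr => ?_
    obtain ⟨a⟩ : Nonempty Ω := Fintype.card_pos_iff.mp (by omega)
    have hdvd : Fintype.card Ω ∣ Nat.card H := by
      rw [← Nat.card_eq_fintype_card, ← index_stabilizer_of_transitive H a]
      exact Subgroup.index_dvd_card _
    have hc := Subgroup.index_mul_card H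
    rw [hH, Nat.card_perm, Nat.card_eq_fintype_card (α := Ω)] at hc
    generalize Nat.card H = m at hc hdvd
    interval_cases h : Fintype.card Ω <;> simp [Nat.factorial] at hc <;> omega
  obtain ⟨φ, hφ, b, rfl⟩ := exists_auto h5 H hH
  obtain ⟨a, c, hac⟩ := (Fintype.one_lt_card_iff (α := Ω)).mp (by omega)
  obtain ⟨h1, h2, h3⟩ := involution_of_swap φ hφ ⟨a, c, hac, rfl⟩
  exact preimage_stabilizer (by omega) φ hφ ⟨a, c, hac, rfl⟩
    ((shortProducts_cases h5 h3 h1 h2).resolve_right fun h => h6 h.1) b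

/-- An automorphism of `S₆` moving the transpositions. -/
def IsExotic (φ : Perm Ω →* Perm Ω) : Prop :=
  Function.Bijective φ ∧ ∀ s : Perm Ω, s.IsSwap → ¬ (φ s).IsSwap

theorem fpf_conj (h6 : Fintype.card Ω = 6) {t u : Perm Ω} (ht : t * t = 1) (hu : u * u = 1)
    (htf : ∀ x, t x ≠ x) (huf : ∀ x, u x ≠ x) : IsConj t u := by
  rw [Equiv.Perm.isConj_iff_cycleType_eq]
  have key : ∀ v : Perm Ω, v * v = 1 → (∀ x, v x ≠ x) → v.cycleType = Multiset.replicate 3 2 := by
    intro v hv hvf
    have h := Equiv.Perm.cycleType_of_pow_prime_eq_one (p := 2) (show v ^ 2 = 1 by rw [sq, hv])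
    have hsum := v.sum_cycleType
    rw [h, Multiset.sum_replicate, show v.support = Finset.univ from
      Finset.eq_univ_iff_forall.mpr fun x => Perm.mem_support.mpr (hvf x), Finset.card_univ, h6, smul_eq_mul] at hsum
    rw [h, show Multiset.card v.cycleType = 3 by omega]
  rw [key t ht htf, key u hu huf]

theorem IsExotic.swap_fpf (h6 : Fintype.card Ω = 6) {φ : Perm Ω →* Perm Ω} (hφ : IsExotic φ) {s : Perm Ω}
    (hs : s.IsSwap) : φ s * φ s = 1 ∧ ∀ x, φ s x ≠ x := by
  obtain ⟨h1, h2, h3⟩ := involution_of_swap φ hφ.1 hs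
  exact ⟨h2, ((shortProducts_cases (by omega) h3 h1 h2).resolve_left (hφ.2 s hs)).2⟩

theorem IsExotic.fpf_swap (h6 : Fintype.card Ω = 6) {φ : Perm Ω →* Perm Ω} (hφ : IsExotic φ) {f : Perm Ω}
    (hf : f * f = 1) (hff : ∀ x, f x ≠ x) : (φ f).IsSwap := by
  obtain ⟨a, c, hac⟩ := (Fintype.one_lt_card_iff (α := Ω)).mp (show 1 < Fintype.card Ω by omega)
  have hs : (swap a c).IsSwap := ⟨a, c, hac, rfl⟩
  obtain ⟨hu, huf⟩ := hφ.swap_fpf h6 hs
  obtain ⟨g, hg⟩ := isConj_iff.mp (fpf_conj h6 hu hf huf hff)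
  have hshort : HasShortProducts f := by
    intro h
    have := (shortProducts_swap a c).map φ hφ.1.2
    rcases this (g⁻¹ * h * g) with h' | h' <;> [left; right] <;>
    · rw [← hg]
      have e : g * φ (swap a c) * g⁻¹ * (h * (g * φ (swap a c) * g⁻¹) * h⁻¹) =
          g * (φ (swap a c) * (g⁻¹ * h * g * φ (swap a c) * (g⁻¹ * h * g)⁻¹)) * g⁻¹ := by group
      rw [e, ← MulAut.conj_apply, ← map_pow, h', map_one]
  have hne : φ f ≠ 1 := by
    intro h
    have : f = 1 := hφ.1.1 (by rw [h, map_one])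
    exact hff a (by simp [this])
  refine (shortProducts_cases (by omega) (hshort.map φ hφ.1.2) hne (by rw [← map_mul, hf, map_one])).resolve_right ?_
  rintro ⟨-, hfp⟩
  -- then `φ f` would be the image of a transposition
  obtain ⟨k', hk⟩ := isConj_iff.mp (fpf_conj h6 hu (by rw [← map_mul, hf, map_one]) huf hfp)
  obtain ⟨k, rfl⟩ := hφ.1.2 k'
  rw [← map_inv, ← map_mul, ← map_mul] at hk
  have := hφ.1.1 hk
  rw [Equiv.mul_swap_eq_swap_mul, mul_inv_cancel_right] at this
  obtain ⟨x, hx⟩ : ∃ x, x ∉ ({k a, k c} : Finset Ω) := by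
    by_contra h
    push Not at h
    have h2 := (Finset.card_le_card (fun x (_ : x ∈ Finset.univ) => h x)).trans Finset.card_le_two
    rw [Finset.card_univ] at h2; omega
  simp only [Finset.mem_insert, Finset.mem_singleton, not_or] at hx
  exact hff x (by rw [← this, swap_apply_of_ne_of_ne hx.1 hx.2])

theorem isExotic_of_not_stabilizer (h6 : Fintype.card Ω = 6) {φ : Perm Ω →* Perm Ω} (hφ : Function.Bijective φ)
    {b : Ω} (h : ∀ x : Ω, (stabilizer (Perm Ω) b).comap φ ≠ stabilizer (Perm Ω) x) : IsExotic φ :=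
  ⟨hφ, fun s hs hφs => by
    obtain ⟨x, hx⟩ := preimage_stabilizer (by omega) φ hφ hs hφs b
    exact h x hx⟩

theorem exists_nonstabilizer_fin : ∃ H : Subgroup (Perm (Fin 6)), H.index = 6 ∧
    ∀ a : Fin 6, H ≠ stabilizer (Perm (Fin 6)) a := by
  have : Fact (Nat.Prime 5) := ⟨by norm_num⟩
  have hG : Nat.card (Perm (Fin 5)) = 120 := by simp [Fintype.card_perm, Nat.factorial]
  obtain ⟨P⟩ : Nonempty (Sylow 5 (Perm (Fin 5))) := inferInstance
  have hPcard : Nat.card (P : Subgroup (Perm (Fin 5))) = 5 := by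
    rw [P.card_eq_multiplicity, hG, show (120 : ℕ).factorization 5 = 1 from ?_, pow_one]
    rw [Nat.factorization_def _ (by norm_num), show (120 : ℕ) = 5 * 24 by norm_num, padicValNat.mul (by norm_num) (by norm_num),
      padicValNat.self (by norm_num), padicValNat.eq_zero_of_not_dvd (by norm_num)]
  have hPi : (P : Subgroup (Perm (Fin 5))).index = 24 := by
    have := (P : Subgroup (Perm (Fin 5))).index_mul_card
    rw [hPcard, hG] at this; omega
  have hnA : ∀ K : Subgroup (Perm (Fin 5)), K.index = 24 ∨ Nat.card K ≤ 30 → ¬ alternatingGroup (Fin 5) ≤ K := by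
    intro K hK hle
    have h1 := Subgroup.card_le_of_le hle
    have h2 : Nat.card (alternatingGroup (Fin 5)) = 60 := by
      rw [nat_card_alternatingGroup, Nat.card_fin]; rfl
    have := K.index_mul_card
    rw [hG] at this
    rcases hK with hK | hK
    · rw [hK] at this; omega
    · omega
  have hn : Nat.card (Sylow 5 (Perm (Fin 5))) = 6 := by
    have hd : Nat.card (Sylow 5 (Perm (Fin 5))) ∣ 24 := hPi ▸ P.card_dvd_index
    have hm := card_sylow_modEq_one 5 (Perm (Fin 5))
    have hne : Nat.card (Sylow 5 (Perm (Fin 5))) ≠ 1 := by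
      intro h1
      have hnorm : (P : Subgroup (Perm (Fin 5))).Normal := by
        rw [← Subgroup.normalizer_eq_top_iff, ← Subgroup.index_eq_one]
        exact P.card_eq_index_normalizer.symm.trans h1
      have := normal_le_eq_bot (Ω := Fin 5) (by simp) P (hnA _ (Or.inl hPi)) P le_rfl
      rw [this] at hPcard; simp at hPcard
    have := Nat.le_of_dvd (by norm_num) hd
    unfold Nat.ModEq at hm
    interval_cases h : Nat.card (Sylow 5 (Perm (Fin 5))) <;> simp_all
  let f : (Perm (Fin 5)) →* Perm (Sylow 5 (Perm (Fin 5))) := MulAction.toPermHom (Perm (Fin 5)) (Sylow 5 (Perm (Fin 5)))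
  have hker : f.ker = ⊥ := by
    refine normal_le_eq_bot (Ω := Fin 5) (by simp) (stabilizer (Perm (Fin 5)) P) (hnA _ (Or.inr ?_)) _ fun g hg => ?_
    · have := (stabilizer (Perm (Fin 5)) P).index_mul_card
      rw [index_stabilizer_of_transitive, hn, hG] at this; omega
    · exact Equiv.Perm.ext_iff.mp (MonoidHom.mem_ker.mp hg) P
  let e : Sylow 5 (Perm (Fin 5)) ≃ Fin 6 := (Finite.card_eq.mp (by rw [hn, Nat.card_fin])).some
  let ψ : (Perm (Fin 5)) →* Perm (Fin 6) := e.permCongrHom.toMonoidHom.comp f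
  have hψ : Function.Injective ψ := e.permCongrHom.injective.comp ((MonoidHom.ker_eq_bot_iff f).mp hker)
  refine ⟨ψ.range, ?_, fun a ha => ?_⟩
  · have := ψ.range.index_mul_card
    rw [← Nat.card_congr (MonoidHom.ofInjective hψ).toEquiv, hG, Nat.card_perm, Nat.card_fin] at this
    simp [Nat.factorial] at this; omega
  · obtain ⟨Q, hQ⟩ : ∃ Q : Sylow 5 (Perm (Fin 5)), Q ≠ e.symm a := by
      by_contra h
      push Not at h
      have : Subsingleton (Sylow 5 (Perm (Fin 5))) := ⟨fun x y => (h x).trans (h y).symm⟩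
      have := Finite.card_le_one_iff_subsingleton.mpr this
      omega
    obtain ⟨g, hg⟩ := MulAction.exists_smul_eq (Perm (Fin 5)) (e.symm a) Q
    have : ψ g ∈ stabilizer (Perm (Fin 6)) a := ha ▸ ⟨g, rfl⟩
    have h2 : ψ g a = a := this
    apply hQ
    rw [← hg]
    apply e.injective
    rw [e.apply_symm_apply]
    simpa [ψ, f, Equiv.permCongrHom, Equiv.permCongr_apply] using h2

theorem exists_nonstabilizer (h6 : Fintype.card Ω = 6) : ∃ H : Subgroup (Perm Ω), H.index = 6 ∧
    ∀ a : Ω, H ≠ stabilizer (Perm Ω) a := by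
  obtain ⟨H, hH, hne⟩ := exists_nonstabilizer_fin
  let e : Ω ≃ Fin 6 := Fintype.equivFinOfCardEq h6
  refine ⟨H.comap e.permCongrHom.toMonoidHom, ?_, fun a ha => hne (e a) ?_⟩
  · rw [Subgroup.index_comap_of_surjective _ e.permCongrHom.surjective, hH]
  · ext g
    obtain ⟨g, rfl⟩ := e.permCongrHom.surjective g
    have := SetLike.ext_iff.mp ha g
    rw [Subgroup.mem_comap] at this
    refine this.trans ?_
    simp [MulAction.mem_stabilizer_iff, Equiv.permCongrHom, Equiv.permCongr_apply]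

/-- All index-six subgroups of `S₆` other than point stabilisers are preimages of point stabilisers under one automorphism. -/
theorem index_six_cases (h6 : Fintype.card Ω = 6) :
    ∃ θ : Perm Ω →* Perm Ω, Function.Bijective θ ∧
      (∀ x y : Ω, (stabilizer (Perm Ω) x).comap θ ≠ stabilizer (Perm Ω) y) ∧
      ∀ H : Subgroup (Perm Ω), H.index = 6 →
        (∃ x : Ω, H = stabilizer (Perm Ω) x) ∨ ∃ x : Ω, H = (stabilizer (Perm Ω) x).comap θ := by
  obtain ⟨H₀, hH₀, hne⟩ := exists_nonstabilizer h6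
  obtain ⟨θ, hθ, b, hb⟩ := exists_auto (by omega) H₀ (hH₀.trans h6.symm)
  have hex : IsExotic θ := isExotic_of_not_stabilizer h6 hθ (b := b) (fun x => hb ▸ hne x)
  obtain ⟨s₀, hs₀⟩ : ∃ s : Perm Ω, s.IsSwap := by
    obtain ⟨a, c, hac⟩ := (Fintype.one_lt_card_iff (α := Ω)).mp (show 1 < Fintype.card Ω by omega)
    exact ⟨_, a, c, hac, rfl⟩
  refine ⟨θ, hθ, fun x y hxy => ?_, fun H hH => ?_⟩
  · obtain ⟨g, hg⟩ := MulAction.exists_smul_eq (Perm Ω) x b
    obtain ⟨g', rfl⟩ := hθ.2 g
    refine hne (g' y) (le_antisymm ?_ ?_) <;> rw [← hb] <;> intro k hk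
    · have : g'⁻¹ * k * g' ∈ (stabilizer (Perm Ω) x).comap θ := by
        show θ (g'⁻¹ * k * g') x = x
        have hk' : θ k b = b := hk
        have hg' : θ g' x = b := hg
        simp only [map_mul, map_inv, Perm.mul_apply, hg', hk']
        rw [← hg']; simp
      rw [hxy] at this
      have h' : (g'⁻¹ * k * g') y = y := this
      have := congrArg g' h'
      simpa [MulAction.mem_stabilizer_iff] using this
    · have hk' : k (g' y) = g' y := hk
      have : g'⁻¹ * k * g' ∈ stabilizer (Perm Ω) y := by simp [MulAction.mem_stabilizer_iff, hk']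
      rw [← hxy] at this
      have h2 : θ (g'⁻¹ * k * g') x = x := this
      have hg' : θ g' x = b := hg
      simp only [map_mul, map_inv, Perm.mul_apply, hg'] at h2
      have := congrArg (θ g') h2
      simpa [hg', MulAction.mem_stabilizer_iff] using this
  · by_cases hst : ∃ x : Ω, H = stabilizer (Perm Ω) x
    · exact Or.inl hst
    right
    push Not at hst
    obtain ⟨φ, hφ, c, rfl⟩ := exists_auto (by omega) H (hH.trans h6.symm)
    have hφe : IsExotic φ := isExotic_of_not_stabilizer h6 hφ hst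
    let e := MulEquiv.ofBijective θ hθ
    let ψ : Perm Ω →* Perm Ω := φ.comp e.symm.toMonoidHom
    have hψ : Function.Bijective ψ := hφ.comp e.symm.bijective
    have hinv : ¬ (e.symm s₀).IsSwap := fun h => by
      have := hex.2 _ h
      rw [show θ (e.symm s₀) = s₀ from e.apply_symm_apply s₀] at this
      exact this hs₀
    obtain ⟨h1, h2, h3⟩ := involution_of_swap e.symm.toMonoidHom e.symm.bijective hs₀
    have hfp := ((shortProducts_cases (by omega) h3 h1 h2).resolve_left hinv).2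
    have hψs : (ψ s₀).IsSwap := hφe.fpf_swap h6 h2 hfp
    obtain ⟨x, hx⟩ := preimage_stabilizer (by omega) ψ hψ hs₀ hψs c
    refine ⟨x, ?_⟩
    rw [← hx, Subgroup.comap_comap]
    congr 1
    ext1 g
    show φ g = φ (e.symm (θ g))
    exact congrArg φ (e.symm_apply_apply g).symm

theorem stabilizer_mulEquiv (a : Ω) {m : ℕ} (hm : Fintype.card Ω = m + 1) :
    Nonempty (stabilizer (Perm Ω) a ≃* Perm (Fin m)) := by
  let β := {x : Ω // x ≠ a}
  have hβ : Fintype.card β = m := by simp [β, hm]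
  have fix : ∀ g : stabilizer (Perm Ω) a, (g : Perm Ω) a = a := fun g => g.2
  let φ : Perm β ≃* stabilizer (Perm Ω) a :=
    { toFun := fun g => ⟨Perm.ofSubtype g, Perm.ofSubtype_apply_of_not_mem g (by simp)⟩
      invFun := fun g => (g : Perm Ω).subtypePerm fun x =>
        not_congr ⟨fun h => (g : Perm Ω).injective (h.trans (fix g).symm), fun h => h ▸ fix g⟩
      left_inv := fun g => Perm.subtypePerm_ofSubtype g
      right_inv := fun g => Subtype.ext (Perm.ofSubtype_subtypePerm _ (fun x hx h => hx (h ▸ fix g)))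
      map_mul' := fun g h => Subtype.ext (map_mul _ g h) }
  exact ⟨φ.symm.trans (Fintype.equivFinOfCardEq hβ).permCongrHom⟩

theorem stabilizer_inj (h3 : 3 ≤ Fintype.card Ω) {a b : Ω}
    (h : stabilizer (Perm Ω) a = stabilizer (Perm Ω) b) : a = b := by
  by_contra hne
  obtain ⟨c, hc⟩ : ∃ c, c ∉ ({a, b} : Finset Ω) := by
    by_contra hall
    push Not at hall
    have h2 := (Finset.card_le_card (fun x (_ : x ∈ Finset.univ) => hall x)).trans Finset.card_le_two
    rw [Finset.card_univ] at h2; omega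
  simp only [Finset.mem_insert, Finset.mem_singleton, not_or] at hc
  have hm : swap b c ∈ stabilizer (Perm Ω) a :=
    (swap_apply_of_ne_of_ne hne (Ne.symm hc.1) : swap b c a = a)
  rw [h] at hm
  have : swap b c b = b := hm
  exact hc.2 (by simpa using this)

end CfsgLib.Derangements
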