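import Mathlib
import Cfsg.Agent.Lib.Omega.OrthUnipotent
import Cfsg.Agent.Lib.Omega.SLConj
import Cfsg.Agent.Lib.SemisimpleClasses.Conjugacy
import Cfsg.Agent.Lib.Geometric.Orth.Omega

/-!
Elements of prime order of `GL_n(q)`, `q` odd, and conjugates of them that are similarities of a
non-degenerate quadratic form.
-/

set_option autoImplicit false
set_option linter.unusedSectionVars false
set_option linter.style.haveILetI false

namespace CfsgLib.Derangements.SimOrth

open Matrix QuadraticMap Polynomial Module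
open CfsgLib.Geometric.Orth (toQF coe_toQF nondeg_toQF)

universe u

variable {F : Type u} [Field F] {n : ℕ}

/-- Some conjugate under determinant one is a similarity. -/
def HasFix (Q : (Fin n → F) → F) (x : GL (Fin n) F) : Prop :=
  ∃ g ∈ Cfsg.Geo.specialLinear (Fin n) F, g⁻¹ * x * g ∈ Cfsg.Geo.quadSimilarityGroup Q

theorem polarBilin_toQF {Q : (Fin n → F) → F} (hQ : Cfsg.Geo.IsNondegenerateQuadraticForm Q) :
    (polarBilin (toQF hQ)).Nondegenerate :=
  CfsgLib.Classes.nondegenerate_polarBilin _ (nondeg_toQF hQ)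

/-- A similar conjugate gives a symmetric matrix of non-zero determinant scaled by `x`. -/
theorem gram_of_fix {Q : (Fin n → F) → F} (hQ : Cfsg.Geo.IsNondegenerateQuadraticForm Q)
    {x : GL (Fin n) F} (h : HasFix Q x) :
    ∃ (G : Matrix (Fin n) (Fin n) F) (c : F), Gᵀ = G ∧ G.det ≠ 0 ∧
      (x : Matrix (Fin n) (Fin n) F)ᵀ * G * (x : Matrix (Fin n) (Fin n) F) = c • G := by
  obtain ⟨g, -, c, hc⟩ := h
  set y : Matrix (Fin n) (Fin n) F := ((g⁻¹ * x * g : GL (Fin n) F) : Matrix (Fin n) (Fin n) F) with hy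
  set P : Matrix (Fin n) (Fin n) F := LinearMap.BilinForm.toMatrix' (polarBilin (toQF hQ)) with hP
  have hsym : Pᵀ = P := by
    ext i j
    simp only [hP, Matrix.transpose_apply, LinearMap.BilinForm.toMatrix'_apply, polarBilin_apply_apply]
    exact polar_comm _ _ _
  have hdet : P.det ≠ 0 := by
    rw [hP]
    exact LinearMap.BilinForm.nondegenerate_toMatrix'_iff.2 (polarBilin_toQF hQ) |>.det_ne_zero
  have hyP : yᵀ * P * y = (c : F) • P := by
    have h1 : LinearMap.BilinForm.comp (polarBilin (toQF hQ)) (Matrix.toLin' y) (Matrix.toLin' y) =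
        (c : F) • polarBilin (toQF hQ) := by
      refine LinearMap.ext fun u => LinearMap.ext fun v => ?_
      show polar Q (y *ᵥ u) (y *ᵥ v) = (c : F) * polar Q u v
      simp only [polar, ← Matrix.mulVec_add, hc]
      ring
    have h2 := congrArg LinearMap.BilinForm.toMatrix' h1
    rwa [LinearMap.BilinForm.toMatrix'_comp, map_smul, LinearMap.toMatrix'_toLin', ← hP] at h2
  set a : Matrix (Fin n) (Fin n) F := ((g⁻¹ : GL (Fin n) F) : Matrix (Fin n) (Fin n) F) with ha
  refine ⟨aᵀ * P * a, c, ?_, ?_, ?_⟩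
  · rw [Matrix.transpose_mul, Matrix.transpose_mul, Matrix.transpose_transpose, hsym, Matrix.mul_assoc]
  · rw [Matrix.det_mul, Matrix.det_mul, Matrix.det_transpose]
    exact mul_ne_zero (mul_ne_zero (g⁻¹).det_ne_zero hdet) (g⁻¹).det_ne_zero
  · have hax : a * (x : Matrix (Fin n) (Fin n) F) = y * a := by
      rw [hy, ha, ← Units.val_mul, ← Units.val_mul, mul_assoc, mul_inv_cancel, mul_one]
    calc (x : Matrix (Fin n) (Fin n) F)ᵀ * (aᵀ * P * a) * (x : Matrix (Fin n) (Fin n) F)
        = (a * (x : Matrix (Fin n) (Fin n) F))ᵀ * P * (a * (x : Matrix (Fin n) (Fin n) F)) := by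
          rw [Matrix.transpose_mul]; simp only [Matrix.mul_assoc]
      _ = aᵀ * (yᵀ * P * y) * a := by rw [hax, Matrix.transpose_mul]; simp only [Matrix.mul_assoc]
      _ = (c : F) • (aᵀ * P * a) := by rw [hyP, Matrix.mul_smul, Matrix.smul_mul]

/-- A model with two scaled forms in different square classes gives a conjugate similarity. -/
theorem fix_of_matrix [Fintype F] (h2 : (2 : F) ≠ 0) {Q : (Fin n → F) → F}
    (hQ : Cfsg.Geo.IsNondegenerateQuadraticForm Q) (x : GL (Fin n) F) {κ : Type} [Fintype κ] [DecidableEq κ]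
    (e : (Fin n → F) ≃ₗ[F] (κ → F)) (M G₁ G₂ : Matrix κ κ F) {c : F} (hc : c ≠ 0)
    (he : ∀ v, e ((x : Matrix (Fin n) (Fin n) F) *ᵥ v) = M *ᵥ e v)
    (hs₁ : G₁ᵀ = G₁) (hs₂ : G₂ᵀ = G₂) (hd : ¬ IsSquare (G₁.det * G₂.det))
    (hM₁ : Mᵀ * G₁ * M = c • G₁) (hM₂ : Mᵀ * G₂ * M = c • G₂)
    (hcent : ∀ u : F, u ≠ 0 → ∃ H : Matrix κ κ F, H.det = u ∧ M * H = H * M) :
    HasFix Q x := by
  classical
  have hd₁ : G₁.det ≠ 0 := fun h => hd ⟨0, by rw [h]; ring⟩
  have hd₂ : G₂.det ≠ 0 := fun h => hd ⟨0, by rw [h]; ring⟩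
  let q : Matrix κ κ F → QuadraticForm F (κ → F) := fun G =>
    LinearMap.BilinMap.toQuadraticMap (Matrix.toBilin' G)
  have hpol : ∀ G : Matrix κ κ F, Gᵀ = G → polarBilin (q G) = (2 : F) • Matrix.toBilin' G := fun G hG => by
    refine LinearMap.ext fun u => LinearMap.ext fun v => ?_
    show polar (q G) u v = 2 * Matrix.toBilin' G u v
    rw [LinearMap.BilinMap.polar_toQuadraticMap, two_mul]
    congr 1
    rw [Matrix.toBilin'_apply', Matrix.toBilin'_apply', Matrix.dotProduct_mulVec, ← Matrix.mulVec_transpose, hG,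
      dotProduct_comm]
  have hdet : ∀ G : Matrix κ κ F, Gᵀ = G →
      (LinearMap.BilinForm.toMatrix (Pi.basisFun F κ) (polarBilin (q G))).det = 2 ^ Fintype.card κ * G.det := by
    intro G hG
    rw [hpol G hG, map_smul, LinearMap.BilinForm.toMatrix_basisFun, LinearMap.BilinForm.toMatrix'_toBilin',
      Matrix.det_smul]
  have hnd : ∀ G : Matrix κ κ F, Gᵀ = G → G.det ≠ 0 → (polarBilin (q G)).Nondegenerate := fun G hG h0 => by
    refine (LinearMap.BilinForm.nondegenerate_iff_det_ne_zero (Pi.basisFun F κ)).2 ?_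
    rw [hdet G hG]
    exact mul_ne_zero (pow_ne_zero _ h2) h0
  have hκ : Module.finrank F (κ → F) = Fintype.card (Fin n) := by
    rw [← e.finrank_eq, Module.finrank_fintype_fun_eq_card]
  have hq : ∀ G : Matrix κ κ F, Mᵀ * G * M = c • G → ∀ v, q G (M *ᵥ v) = c * q G v := fun G hG v => by
    simp only [q, LinearMap.BilinMap.toQuadraticMap_apply, Matrix.toBilin'_apply']
    rw [← smul_eq_mul, ← dotProduct_smul, ← Matrix.smul_mulVec, ← hG, Matrix.mulVec_mulVec, Matrix.mul_assoc,
      ← Matrix.mulVec_mulVec _ Mᵀ, Matrix.dotProduct_mulVec _ Mᵀ, Matrix.vecMul_transpose]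
  have hor := CfsgLib.Omega.isometric_or_isometric h2 (toQF hQ) (polarBilin_toQF hQ) hκ (q G₁) (q G₂)
    (hnd G₁ hs₁ hd₁) (hnd G₂ hs₂ hd₂) (fun L hL => by
      obtain ⟨d, hd0, h⟩ := CfsgLib.Omega.det_gram_of_isometry (Pi.basisFun F κ) L hL
      rw [hdet G₁ hs₁, hdet G₂ hs₂] at h
      refine hd ⟨d * G₂.det, mul_left_cancel₀ (pow_ne_zero (Fintype.card κ) h2) ?_⟩
      linear_combination G₂.det * h)
  obtain ⟨G, hG, E, hE⟩ : ∃ G : Matrix κ κ F, Mᵀ * G * M = c • G ∧
      ∃ E : (κ → F) ≃ₗ[F] (Fin n → F), ∀ v, q G v = Q (E v) := by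
    rcases hor with ⟨E, hE⟩ | ⟨E, hE⟩
    exacts [⟨G₁, hM₁, E, hE⟩, ⟨G₂, hM₂, E, hE⟩]
  let L : (Fin n → F) ≃ₗ[F] (Fin n → F) := e.trans E
  let A : Matrix (Fin n) (Fin n) F := LinearMap.toMatrix' (L.symm : (Fin n → F) →ₗ[F] (Fin n → F))
  have hA : A.det ≠ 0 := by
    rw [LinearMap.det_toMatrix']
    exact (LinearEquiv.isUnit_det' L.symm).ne_zero
  let Y : Matrix (Fin n) (Fin n) F := LinearMap.toMatrix' (E.conj (Matrix.toLin' M))
  have hY : ∀ w, Y *ᵥ w = E (M *ᵥ E.symm w) := fun w => by
    simp [Y, LinearEquiv.conj_apply]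
  have hAv : ∀ w, A *ᵥ w = L.symm w := fun w => LinearMap.toMatrix'_mulVec _ w
  have hxY : (x : Matrix (Fin n) (Fin n) F) * Matrix.GeneralLinearGroup.mkOfDetNeZero A hA =
      (Matrix.GeneralLinearGroup.mkOfDetNeZero A hA : GL (Fin n) F) * Y := by
    show (x : Matrix (Fin n) (Fin n) F) * A = A * Y
    refine Matrix.toLin'.injective (LinearMap.ext fun w => ?_)
    simp only [Matrix.toLin'_apply, ← Matrix.mulVec_mulVec, hAv, hY, L, LinearEquiv.symm_trans_apply,
      LinearEquiv.symm_apply_apply]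
    rw [LinearEquiv.eq_symm_apply, he, LinearEquiv.apply_symm_apply]
  obtain ⟨g, hg, hgy⟩ := CfsgLib.Omega.exists_sl_conj_of_gl hxY fun u hu => by
    obtain ⟨H, hH, hHM⟩ := hcent u hu
    refine ⟨LinearMap.toMatrix' (E.conj (Matrix.toLin' H)), ?_, ?_⟩
    · rw [LinearMap.det_toMatrix', LinearEquiv.conj_apply, LinearMap.comp_assoc, LinearMap.det_conj,
        LinearMap.det_toLin', hH]
    · refine Matrix.toLin'.injective (LinearMap.ext fun w => ?_)
      simp [Y, ← Matrix.mulVec_mulVec, LinearEquiv.conj_apply, Matrix.mulVec_mulVec, hHM]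
  refine ⟨g, hg, Units.mk0 c hc, fun w => ?_⟩
  rw [hgy, hY, ← hE, hq G hG, hE, LinearEquiv.apply_symm_apply, Units.val_mk0]

/-- Matrix with one non-zero entry in each row. -/
def monMat {κ : Type} [DecidableEq κ] (σ : Equiv.Perm κ) (c : κ → F) : Matrix κ κ F :=
  Matrix.of fun i j => if j = σ i then c i else 0

theorem det_monMat {κ : Type} [Fintype κ] [DecidableEq κ] (σ : Equiv.Perm κ) (c : κ → F) :
    (monMat σ c).det = (∏ i, c i) * ((Equiv.Perm.sign σ : ℤ) : F) := by
  have : monMat σ c = Matrix.diagonal c * σ.permMatrix F := by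
    ext i j
    simp [monMat, Matrix.diagonal_mul, Equiv.Perm.permMatrix, PEquiv.toMatrix_apply, eq_comm]
  rw [this, Matrix.det_mul, Matrix.det_diagonal, Matrix.det_permutation]

/-- A diagonalisable element whose eigenvalues pair off to one product, one of them with itself. -/
theorem fix_of_eigen [Fintype F] (h2 : (2 : F) ≠ 0) {Q : (Fin n → F) → F}
    (hQ : Cfsg.Geo.IsNondegenerateQuadraticForm Q) (x : GL (Fin n) F)
    (b : Module.Basis (Fin n) F (Fin n → F)) (d : Fin n → F)
    (hb : ∀ i, (x : Matrix (Fin n) (Fin n) F) *ᵥ b i = d i • b i) (σ : Equiv.Perm (Fin n))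
    (hσ : ∀ i, σ (σ i) = i) (i₀ : Fin n) (hi₀ : σ i₀ = i₀) {c : F} (hc : c ≠ 0)
    (hpair : ∀ i, d i * d (σ i) = c) : HasFix Q x := by
  classical
  obtain ⟨ν, hν⟩ := FiniteField.exists_nonsquare (F := F) (fun h => h2 (by
    haveI : CharP F 2 := ringChar.of_eq h
    exact CharTwo.two_eq_zero))
  have he : ∀ v, b.equivFun ((x : Matrix (Fin n) (Fin n) F) *ᵥ v) = Matrix.diagonal d *ᵥ b.equivFun v := by
    intro v
    have : b.equivFun.toLinearMap.comp (Matrix.toLin' (x : Matrix (Fin n) (Fin n) F)) =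
        (Matrix.toLin' (Matrix.diagonal d)).comp b.equivFun.toLinearMap := by
      refine b.ext fun i => ?_
      ext j
      simp [hb, Matrix.mulVec_diagonal, Finsupp.single_apply]
      split_ifs with hij <;> simp [hij]
    exact LinearMap.congr_fun this v
  have hsym : ∀ w : Fin n → F, (∀ i, w (σ i) = w i) → (monMat σ w)ᵀ = monMat σ w := fun w hw => by
    ext i j
    simp only [monMat, Matrix.transpose_apply, Matrix.of_apply]
    by_cases h : j = σ i
    · subst h; rw [if_pos (hσ i).symm, if_pos rfl, hw]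
    · rw [if_neg h, if_neg fun h' => h (by rw [h', hσ])]
  have hM : ∀ w : Fin n → F, (Matrix.diagonal d)ᵀ * monMat σ w * Matrix.diagonal d = c • monMat σ w := by
    intro w
    ext i j
    simp only [monMat, Matrix.diagonal_transpose, Matrix.mul_diagonal, Matrix.diagonal_mul, Matrix.of_apply,
      Matrix.smul_apply, smul_eq_mul]
    split_ifs with h
    · subst h; rw [← hpair i]; ring
    · ring
  refine fix_of_matrix h2 hQ x b.equivFun (Matrix.diagonal d) (monMat σ 1)
    (monMat σ (Function.update 1 i₀ ν)) hc he (hsym _ fun i => rfl) (hsym _ fun i => ?_) ?_ (hM _) (hM _)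
    fun u _ => ⟨Matrix.diagonal (Function.update 1 i₀ u), ?_, ?_⟩
  · by_cases h : i = i₀
    · rw [h, hi₀]
    · rw [Function.update_of_ne h, Function.update_of_ne (fun h' => h (σ.injective (h'.trans hi₀.symm)))]
      rfl
  · rw [det_monMat, det_monMat, Finset.prod_update_of_mem (Finset.mem_univ _)]
    simp only [Pi.one_apply, Finset.prod_const_one, one_mul, mul_one]
    rcases Int.units_eq_one_or (Equiv.Perm.sign σ) with h | h <;> simp [h, hν]
  · rw [Matrix.det_diagonal, Finset.prod_update_of_mem (Finset.mem_univ _)]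
    simp
  · rw [Matrix.diagonal_mul_diagonal, Matrix.diagonal_mul_diagonal]
    simp [mul_comm]

/-- A monic polynomial with only one monic irreducible factor is a power of it. -/
theorem eq_pow_of_factor {π : F[X]} (hπ : π.Monic) :
    ∀ (N : ℕ) (f : F[X]), f.Monic → f.natDegree ≤ N →
      (∀ ρ : F[X], Irreducible ρ → ρ ∣ f → ρ ∣ π) → Irreducible π → ∃ j, f = π ^ j := by
  intro N
  induction N with
  | zero => intro f hf hN _ _; exact ⟨0, by rw [pow_zero, hf.natDegree_eq_zero.1 (by omega)]⟩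
  | succ N ih =>
    intro f hf hN hfac hirr
    by_cases h0 : f.natDegree = 0
    · exact ⟨0, by rw [pow_zero, hf.natDegree_eq_zero.1 h0]⟩
    obtain ⟨ρ, hρ, hρf⟩ := WfDvdMonoid.exists_irreducible_factor
      (fun hu => h0 (natDegree_eq_zero_of_isUnit hu)) hf.ne_zero
    have hπf : π ∣ f := ((hρ.associated_of_dvd hirr (hfac ρ hρ hρf)).symm.dvd).trans hρf
    obtain ⟨f', rfl⟩ := hπf
    have hf' : f'.Monic := hπ.of_mul_monic_left hf
    have hdeg := hπ.natDegree_mul hf'
    have hπpos := hirr.natDegree_pos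
    obtain ⟨j, rfl⟩ := ih f' hf' (by omega) (fun ρ' h h' => hfac ρ' h (h'.mul_left _)) hirr
    exact ⟨j + 1, (pow_succ' π j).symm⟩

/-- The characteristic polynomial of a matrix killed by an irreducible polynomial. -/
theorem charpoly_of_killed {κ : Type*} [Fintype κ] [DecidableEq κ] {A : Matrix κ κ F} {π : F[X]}
    (hπ : π.Monic) (hirr : Irreducible π) (hA : aeval A π = 0) :
    ∃ j, A.charpoly = π ^ j ∧ Fintype.card κ = j * π.natDegree := by
  obtain ⟨j, hj⟩ := eq_pow_of_factor hπ _ A.charpoly A.charpoly_monic le_rfl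
    (fun ρ hρ hd => CfsgLib.CharDegrees.irreducible_dvd_of_dvd_charpoly hρ hd hA) hirr
  refine ⟨j, hj, ?_⟩
  have := congrArg natDegree hj
  rwa [Matrix.charpoly_natDegree_eq_dim, hπ.natDegree_pow] at this

/-- Elements of projective order two. -/
theorem fix_two [Fintype F] (h2 : (2 : F) ≠ 0) (hn : 0 < n) {Q : (Fin n → F) → F}
    (hQ : Cfsg.Geo.IsNondegenerateQuadraticForm Q) (x : GL (Fin n) F) {z : F}
    (hz : (x : Matrix (Fin n) (Fin n) F) ^ 2 = z • (1 : Matrix (Fin n) (Fin n) F)) : HasFix Q x := by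
  classical
  haveI : Nonempty (Fin n) := ⟨⟨0, hn⟩⟩
  have hqodd : Fintype.card F % 2 = 1 := FiniteField.odd_card_of_char_ne_two fun h => h2 (by
    haveI : CharP F 2 := ringChar.of_eq h
    exact CharTwo.two_eq_zero)
  have hz0 : z ≠ 0 := by
    intro h
    have := congrArg Matrix.det hz
    rw [Matrix.det_pow, h, zero_smul, Matrix.det_zero] at this
    exact x.det_ne_zero (sq_eq_zero_iff.1 this)
  by_cases hsq : IsSquare z
  · obtain ⟨w, rfl⟩ := hsq
    have hw : w ≠ 0 := fun h => hz0 (by rw [h, mul_zero])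
    have hne : w ≠ -w := fun h => hw ((mul_eq_zero.1 (show (2 : F) * w = 0 by linear_combination h)).resolve_left h2)
    obtain ⟨b, d, hd, hb⟩ := CfsgLib.Omega.exists_eigenbasis (x : Matrix (Fin n) (Fin n) F) {w, -w} (by
      rw [Finset.prod_pair hne, show (X - C w) * (X - C (-w)) = X ^ 2 - C (w * w) by
        rw [map_neg, map_mul]; ring]
      rw [map_sub, aeval_X_pow, aeval_C, hz, Algebra.algebraMap_eq_smul_one, sub_self])
    refine fix_of_eigen h2 hQ x b d hb 1 (fun i => rfl) ⟨0, hn⟩ rfl hz0 fun i => ?_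
    rcases Finset.mem_insert.1 (hd i) with h | h
    · show d i * d i = w * w
      rw [h]
    · show d i * d i = w * w
      rw [Finset.mem_singleton.1 h, neg_mul_neg]
  · set π : F[X] := X ^ 2 - C z with hπ
    have hm : π.Monic := monic_X_pow_sub_C _ two_ne_zero
    have hirr : Irreducible π :=
      X_pow_sub_C_irreducible_of_prime Nat.prime_two fun a ha => hsq ⟨a, by rw [← ha, pow_two]⟩
    have hdeg : π.natDegree = 2 := natDegree_X_pow_sub_C
    have hkx : aeval (x : Matrix (Fin n) (Fin n) F) π = 0 := by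
      rw [hπ, map_sub, aeval_X_pow, aeval_C, hz, Algebra.algebraMap_eq_smul_one, sub_self]
    obtain ⟨k, hkc, hk⟩ := charpoly_of_killed hm hirr hkx
    rw [Fintype.card_fin, hdeg] at hk
    have hk0 : 0 < k := by omega
    let M₂ : Matrix (Fin 2) (Fin 2) F := !![0, z; 1, 0]
    let M : Matrix (Fin 2 × Fin k) (Fin 2 × Fin k) F := Matrix.blockDiagonal fun _ => M₂
    have hM2 : M₂ * M₂ = z • (1 : Matrix (Fin 2) (Fin 2) F) := by
      ext i j; fin_cases i <;> fin_cases j <;> simp [M₂, Matrix.mul_apply, Fin.sum_univ_two]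
    have hkM : aeval M π = 0 := by
      rw [hπ, map_sub, aeval_X_pow, aeval_C, Algebra.algebraMap_eq_smul_one, pow_two, sub_eq_zero,
        ← Matrix.blockDiagonal_mul]
      simp only [hM2]
      rw [show (fun _ : Fin k => z • (1 : Matrix (Fin 2) (Fin 2) F)) =
        z • (1 : Fin k → Matrix (Fin 2) (Fin 2) F) from rfl, Matrix.blockDiagonal_smul, Matrix.blockDiagonal_one]
    obtain ⟨k', hkc', hk'⟩ := charpoly_of_killed hm hirr hkM
    rw [Fintype.card_prod, Fintype.card_fin, Fintype.card_fin, hdeg] at hk'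
    obtain rfl : k' = k := by omega
    obtain ⟨e, he⟩ := CfsgLib.SemisimpleClasses.exists_equiv_of_charpoly_eq n
      (Matrix.toLin' (x : Matrix (Fin n) (Fin n) F)) (Matrix.toLin' M)
      (Module.End.isSemisimple_of_squarefree_aeval_eq_zero hirr.squarefree (by
        rw [show aeval (Matrix.toLin' (x : Matrix (Fin n) (Fin n) F)) π =
          Matrix.toLinAlgEquiv' (aeval (x : Matrix (Fin n) (Fin n) F) π) from
            Polynomial.aeval_algHom_apply (Matrix.toLinAlgEquiv' : Matrix (Fin n) (Fin n) F ≃ₐ[F] _).toAlgHom _ _,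
          hkx, map_zero]))
      (Module.End.isSemisimple_of_squarefree_aeval_eq_zero hirr.squarefree (by
        rw [show aeval (Matrix.toLin' M) π = Matrix.toLinAlgEquiv' (aeval M π) from
          Polynomial.aeval_algHom_apply (Matrix.toLinAlgEquiv' : Matrix (Fin 2 × Fin k') (Fin 2 × Fin k') F ≃ₐ[F] _).toAlgHom _ _,
          hkM, map_zero]))
      (by rw [Module.finrank_fin_fun]) (by rw [Matrix.charpoly_toLin', Matrix.charpoly_toLin', hkc, hkc'])
    obtain ⟨a, s, has⟩ : ∃ a s : F, a ^ 2 + s ^ 2 = z := by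
      obtain ⟨a, s, h⟩ := FiniteField.exists_root_sum_quadratic (R := F) (f := X ^ 2) (g := X ^ 2 - C z)
        (degree_X_pow 2) (degree_X_pow_sub_C two_pos z) hqodd
      simp only [eval_pow, eval_X, eval_sub, eval_C] at h
      exact ⟨a, s, by linear_combination h⟩
    let B : F → Matrix (Fin 2) (Fin 2) F := fun t => !![1, t; t, z]
    let i₀ : Fin k' := ⟨0, hk0⟩
    let G : F → Matrix (Fin 2 × Fin k') (Fin 2 × Fin k') F :=
      fun t => Matrix.blockDiagonal fun i => if i = i₀ then B t else B 0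
    have hGM : ∀ t, Mᵀ * G t * M = z • G t := fun t => by
      simp only [G, M, Matrix.blockDiagonal_transpose, ← Matrix.blockDiagonal_mul, ← Matrix.blockDiagonal_smul]
      congr 1
      funext i
      rw [Pi.smul_apply]
      split_ifs <;> ext u v <;> fin_cases u <;> fin_cases v <;>
        simp [M₂, B, Matrix.mul_apply, Fin.sum_univ_two] <;> ring
    have hGs : ∀ t, (G t)ᵀ = G t := fun t => by
      simp only [G, Matrix.blockDiagonal_transpose]
      congr 1
      funext i
      split_ifs <;> ext u v <;> fin_cases u <;> fin_cases v <;> simp [B]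
    have hGd : ∀ t, (G t).det = (z - t * t) * z ^ (k' - 1) := fun t => by
      simp only [G, Matrix.det_blockDiagonal, apply_ite Matrix.det, B, Matrix.det_fin_two_of, one_mul,
        mul_zero, sub_zero]
      rw [← Finset.mul_prod_erase Finset.univ _ (Finset.mem_univ i₀), if_pos rfl,
        Finset.prod_congr rfl (fun i hi => if_neg (by simpa using hi)), Finset.prod_const]
      congr 2
      simp
    refine fix_of_matrix h2 hQ x e M (G 0) (G a) hz0 (fun v => he v) (hGs 0) (hGs a) ?_ (hGM 0) (hGM a) fun u hu => ?_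
    · rw [hGd, hGd]
      rintro ⟨t, ht⟩
      have hs : s ≠ 0 := fun h => hsq ⟨a, by rw [← has, h]; ring⟩
      refine hsq ⟨t / (s * z ^ (k' - 1)), ?_⟩
      have hp := pow_ne_zero (k' - 1) hz0
      field_simp
      linear_combination ht + z * (z ^ (k' - 1)) ^ 2 * has
    · obtain ⟨α, β, hαβ⟩ := FiniteField.exists_root_sum_quadratic (R := F) (f := X ^ 2)
        (g := C (-z) * X ^ 2 - C u) (degree_X_pow 2) (by
          rw [degree_sub_C (by rw [degree_C_mul_X_pow 2 (neg_ne_zero.2 hz0)]; decide),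
            degree_C_mul_X_pow 2 (neg_ne_zero.2 hz0)]; rfl)
        hqodd
      simp only [eval_pow, eval_X, eval_sub, eval_mul, eval_C] at hαβ
      refine ⟨Matrix.blockDiagonal fun i => if i = i₀ then !![α, z * β; β, α] else 1, ?_, ?_⟩
      · simp only [Matrix.det_blockDiagonal, apply_ite Matrix.det, Matrix.det_one, Matrix.det_fin_two_of]
        rw [Finset.prod_ite_eq' Finset.univ i₀ fun _ => α * α - z * β * β, if_pos (Finset.mem_univ _)]
        linear_combination hαβ
      · simp only [M, ← Matrix.blockDiagonal_mul]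
        congr 1
        funext i
        split_ifs
        · ext u v; fin_cases u <;> fin_cases v <;> simp [M₂, Matrix.mul_apply, Fin.sum_univ_two] <;> ring
        · rw [Matrix.mul_one, Matrix.one_mul]

/-- A transvection has no similar conjugate. -/
theorem not_fix_transvection (h2 : (2 : F) ≠ 0) (hn : 3 ≤ n) {Q : (Fin n → F) → F}
    (hQ : Cfsg.Geo.IsNondegenerateQuadraticForm Q) (x : GL (Fin n) F)
    (hx : (x : Matrix (Fin n) (Fin n) F) = 1 + Matrix.single (⟨0, by omega⟩ : Fin n) ⟨1, by omega⟩ (1 : F)) :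
    ¬ HasFix Q x := by
  classical
  intro h
  obtain ⟨G, c, hsym, hdet, hG⟩ := gram_of_fix hQ h
  have hs : ∀ i j, G i j = G j i := fun i j => congrFun₂ hsym j i
  set i0 : Fin n := ⟨0, by omega⟩
  set i1 : Fin n := ⟨1, by omega⟩
  have h01 : i0 ≠ i1 := by simp [i0, i1, Fin.ext_iff]
  have hent : ∀ i j, G i j + (if j = i1 then G i i0 else 0) + (if i = i1 then G i0 j else 0) +
      (if i = i1 ∧ j = i1 then G i0 i0 else 0) = c * G i j := by
    intro i j
    have h3 := congrFun₂ hG i j
    rw [hx, Matrix.transpose_add, Matrix.transpose_one, Matrix.transpose_single, Matrix.smul_apply, smul_eq_mul] at h3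
    simp only [Matrix.add_mul, Matrix.one_mul, Matrix.mul_add, Matrix.mul_one, Matrix.add_apply] at h3
    rw [← h3]
    by_cases hi : i = i1 <;> by_cases hj : j = i1 <;> simp [hi, hj] <;> ring
  have hc : c = 1 := by
    by_contra hc
    have hz : ∀ i j, i ≠ i1 → j ≠ i1 → G i j = 0 := fun i j hi hj => by
      have := hent i j
      rw [if_neg hj, if_neg hi, if_neg fun h => hi h.1] at this
      exact (mul_eq_zero.1 (show (c - 1) * G i j = 0 by linear_combination -this)).resolve_left (sub_ne_zero.2 hc)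
    set i2 : Fin n := ⟨2, by omega⟩
    have h20 : i0 ≠ i2 := by simp [i0, i2, Fin.ext_iff]
    have h21 : i2 ≠ i1 := by simp [i1, i2, Fin.ext_iff]
    refine hdet ?_
    rw [Matrix.det_apply]
    refine Finset.sum_eq_zero fun τ _ => ?_
    by_cases ha : τ i0 = i1
    · rw [Finset.prod_eq_zero (f := fun i => G (τ i) i) (Finset.mem_univ i2) (hz (τ i2) i2 (fun h => h20 (τ.injective (ha.trans h.symm))) h21),
        smul_zero]
    · rw [Finset.prod_eq_zero (f := fun i => G (τ i) i) (Finset.mem_univ i0) (hz (τ i0) i0 ha h01), smul_zero]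
  subst hc
  have hcol : ∀ j, j ≠ i1 → G j i0 = 0 := fun j hj => by
    have := hent j i1
    rw [if_pos rfl, if_neg hj, if_neg fun h => hj h.1] at this
    linear_combination this
  have h00 : G i0 i0 = 0 := hcol i0 h01
  have h10 : G i1 i0 = 0 := by
    have := hent i1 i1
    rw [if_pos rfl, if_pos rfl, if_pos ⟨rfl, rfl⟩, h00, hs i0 i1] at this
    exact (mul_eq_zero.1 (show (2 : F) * G i1 i0 = 0 by linear_combination this)).resolve_left h2
  refine hdet (Matrix.det_eq_zero_of_column_eq_zero i0 fun j => ?_)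
  by_cases hj : j = i1
  · rw [hj, h10]
  · exact hcol j hj

/-- Eigenvalue classes of unequal sizes with different squares: no similar conjugate. -/
theorem not_fix_diagonal [DecidableEq F] {Q : (Fin n → F) → F} (hQ : Cfsg.Geo.IsNondegenerateQuadraticForm Q)
    (x : GL (Fin n) F) (d : Fin n → F) (hx : (x : Matrix (Fin n) (Fin n) F) = Matrix.diagonal d) (a b : F)
    (hab : a ^ 2 ≠ b ^ 2) (ha0 : a ≠ 0) (hb0 : b ≠ 0)
    (ha : ∀ v, (Finset.univ.filter fun i => d i = v).card = (Finset.univ.filter fun i => d i = a).card → v = a)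
    (hb : ∀ v, (Finset.univ.filter fun i => d i = v).card = (Finset.univ.filter fun i => d i = b).card → v = b) :
    ¬ HasFix Q x := by
  intro h
  obtain ⟨G, c, -, hdet, hG⟩ := gram_of_fix hQ h
  obtain ⟨τ, hτ⟩ : ∃ τ : Equiv.Perm (Fin n), ∀ i, G (τ i) i ≠ 0 := by
    by_contra! hall
    refine hdet ?_
    rw [Matrix.det_apply]
    refine Finset.sum_eq_zero fun τ _ => ?_
    obtain ⟨i, hi⟩ := hall τ
    rw [Finset.prod_eq_zero (f := fun i => G (τ i) i) (Finset.mem_univ i) hi, smul_zero]
  have hd : ∀ i, d i ≠ 0 := fun i h0 => x.det_ne_zero (by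
    rw [hx, Matrix.det_diagonal]; exact Finset.prod_eq_zero (Finset.mem_univ i) h0)
  have hprod : ∀ i, d (τ i) * d i = c := fun i => by
    have h3 := congrFun₂ hG (τ i) i
    rw [hx, Matrix.diagonal_transpose, Matrix.mul_diagonal, Matrix.diagonal_mul, Matrix.smul_apply, smul_eq_mul] at h3
    exact mul_right_cancel₀ (hτ i) (by linear_combination h3)
  have key : ∀ v, (∀ w, (Finset.univ.filter fun i => d i = w).card =
      (Finset.univ.filter fun i => d i = v).card → w = v) → v ≠ 0 → c = v ^ 2 := by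
    intro v hv hv0
    have hw : (Finset.univ.filter fun i => d i = c / v).card = (Finset.univ.filter fun i => d i = v).card := by
      refine (Finset.card_equiv τ fun i => ?_).symm
      simp only [Finset.mem_filter, Finset.mem_univ, true_and]
      rw [← hprod i]
      constructor
      · rintro rfl
        rw [mul_div_assoc, div_self hv0, mul_one]
      · intro h4
        field_simp at h4
        exact (mul_left_cancel₀ (hd (τ i)) (by linear_combination h4)).symm
    have := hv _ hw
    rw [div_eq_iff hv0] at this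
    rw [this, pow_two]
  exact hab ((key a ha ha0).symm.trans (key b hb hb0))

end CfsgLib.Derangements.SimOrth
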