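import Mathlib
import Cfsg.Agent.Lib.Derangements.SimilarityOrth

/-!
Elements of prime order `r` dividing `q - 1`, and transvections: which have a conjugate that is a similarity.
-/

set_option autoImplicit false
set_option linter.unusedSectionVars false
set_option linter.unusedSimpArgs false
set_option linter.style.haveILetI false

namespace CfsgLib.Derangements.SimOrth

open Matrix Polynomial

universe u

variable {F : Type u} [Field F] {n r : ℕ}

/-- Every element of projective order `r` in the special linear group has a similar conjugate. -/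
def AllFix (Q : (Fin n → F) → F) (r : ℕ) : Prop :=
  ∀ x ∈ Cfsg.Geo.specialLinear (Fin n) F,
    (∃ z : F, ((x ^ r : GL (Fin n) F) : Matrix (Fin n) (Fin n) F) = z • (1 : Matrix (Fin n) (Fin n) F)) →
    (∀ z : F, (x : Matrix (Fin n) (Fin n) F) ≠ z • (1 : Matrix (Fin n) (Fin n) F)) → HasFix Q x

/-- A diagonal counterexample. -/
theorem not_allFix_of_diag [DecidableEq F] {Q : (Fin n → F) → F} (hQ : Cfsg.Geo.IsNondegenerateQuadraticForm Q)
    (d : Fin n → F) (hdet : ∏ i, d i = 1) {z : F} (hz : ∀ i, d i ^ r = z) (a b : F) (hab : a ^ 2 ≠ b ^ 2)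
    (ha0 : a ≠ 0) (hb0 : b ≠ 0) (hia : ∃ i, d i = a) (hib : ∃ i, d i = b)
    (ha : ∀ v, (Finset.univ.filter fun i => d i = v).card = (Finset.univ.filter fun i => d i = a).card → v = a)
    (hb : ∀ v, (Finset.univ.filter fun i => d i = v).card = (Finset.univ.filter fun i => d i = b).card → v = b) :
    ¬ AllFix Q r := by
  intro h
  have hd : (Matrix.diagonal d).det = 1 := by rw [Matrix.det_diagonal, hdet]
  let x : GL (Fin n) F := Matrix.GeneralLinearGroup.mkOfDetNeZero (Matrix.diagonal d) (by rw [hd]; exact one_ne_zero)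
  have hx : (x : Matrix (Fin n) (Fin n) F) = Matrix.diagonal d := rfl
  refine not_fix_diagonal hQ x d hx a b hab ha0 hb0 ha hb (h x ?_ ⟨z, ?_⟩ ?_)
  · rw [CfsgLib.Omega.mem_specialLinear, hx, hd]
  · rw [Units.val_pow_eq_pow_val, hx, Matrix.diagonal_pow, Matrix.smul_one_eq_diagonal]
    exact congrArg Matrix.diagonal (funext hz)
  · intro t ht
    rw [hx, Matrix.smul_one_eq_diagonal, Matrix.diagonal_injective.eq_iff] at ht
    obtain ⟨i, rfl⟩ := hia
    obtain ⟨j, rfl⟩ := hib
    exact hab (by rw [ht])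

theorem card_filter_lt {k : ℕ} (hk : k ≤ n) :
    (Finset.univ.filter fun i : Fin n => (i : ℕ) < k).card = k := by
  rw [Finset.card_filter, Fin.sum_univ_eq_sum_range (fun i => if i < k then 1 else 0), ← Finset.card_filter]
  have : (Finset.range n).filter (fun i => i < k) = Finset.range k := by
    ext i; simp only [Finset.mem_filter, Finset.mem_range]; omega
  rw [this, Finset.card_range]

/-- Two eigenvalues of different multiplicities. -/
theorem not_allFix_two {Q : (Fin n → F) → F} (hQ : Cfsg.Geo.IsNondegenerateQuadraticForm Q) {k : ℕ}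
    (hk0 : 0 < k) (hkn : k < n) (hne : k ≠ n - k) (a b : F) (hab : a ^ 2 ≠ b ^ 2)
    (hdet : a ^ k * b ^ (n - k) = 1) (hpow : a ^ r = b ^ r) : ¬ AllFix Q r := by
  classical
  have ha0 : a ≠ 0 := fun h => by rw [h, zero_pow hk0.ne', zero_mul] at hdet; exact zero_ne_one hdet
  have hb0 : b ≠ 0 := fun h => by
    rw [h, zero_pow (by omega : n - k ≠ 0), mul_zero] at hdet; exact zero_ne_one hdet
  have hab' : a ≠ b := fun h => hab (by rw [h])
  set d : Fin n → F := fun i => if (i : ℕ) < k then a else b with hd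
  have hlo : (Finset.univ.filter fun i : Fin n => (i : ℕ) < k).card = k := card_filter_lt hkn.le
  have hhi : (Finset.univ.filter fun i : Fin n => ¬ (i : ℕ) < k).card = n - k := by
    rw [Finset.filter_not, Finset.card_sdiff_of_subset (Finset.filter_subset _ _), hlo, Finset.card_univ,
      Fintype.card_fin]
  have hfa : (Finset.univ.filter fun i => d i = a).card = k := by
    refine Eq.trans (congrArg Finset.card (Finset.filter_congr fun i _ => ?_)) hlo
    simp [hd, hab'.symm]
  have hfb : (Finset.univ.filter fun i => d i = b).card = n - k := by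
    refine Eq.trans (congrArg Finset.card (Finset.filter_congr fun i _ => ?_)) hhi
    simp [hd, hab']
  have hfv : ∀ v, v ≠ a → v ≠ b → (Finset.univ.filter fun i => d i = v).card = 0 := fun v h1 h2 => by
    rw [Finset.card_eq_zero, Finset.filter_eq_empty_iff]
    intro i _
    simp only [hd]
    split_ifs <;> exact fun h => by simp_all
  refine not_allFix_of_diag hQ d ?_ (z := a ^ r) (fun i => ?_) a b hab ha0 hb0
    ⟨⟨0, by omega⟩, if_pos hk0⟩ ⟨⟨k, hkn⟩, if_neg (lt_irrefl k)⟩ (fun v hv => ?_) (fun v hv => ?_)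
  · rw [hd, Finset.prod_ite, Finset.prod_const, Finset.prod_const, hlo, hhi, hdet]
  · simp only [hd]; split_ifs
    exacts [rfl, hpow.symm]
  · by_contra h
    rw [hfa] at hv
    rcases eq_or_ne v b with rfl | hb
    · omega
    · rw [hfv v h hb] at hv; omega
  · by_contra h
    rw [hfb] at hv
    rcases eq_or_ne v a with rfl | ha
    · omega
    · rw [hfv v ha h] at hv; omega

/-- Three eigenvalues of different multiplicities. -/
theorem not_allFix_three {Q : (Fin n → F) → F} (hQ : Cfsg.Geo.IsNondegenerateQuadraticForm Q) (hn : 6 ≤ n)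
    (b t : F) (hb : b ^ 2 ≠ 1) (ht1 : t ≠ 1) (htb : t ≠ b) (hdet : b ^ 2 * t = 1) (hbr : b ^ r = 1)
    (htr : t ^ r = 1) : ¬ AllFix Q r := by
  classical
  have hb0 : b ≠ 0 := fun h => by rw [h] at hdet; simp at hdet
  have hb1 : b ≠ 1 := fun h => hb (by rw [h, one_pow])
  set d : Fin n → F := fun i => if (i : ℕ) < 2 then b else if (i : ℕ) < 3 then t else 1 with hd
  have h2 := card_filter_lt (n := n) (k := 2) (by omega)
  have h3 := card_filter_lt (n := n) (k := 3) (by omega)
  have hmid : (Finset.univ.filter fun i : Fin n => ¬ (i : ℕ) < 2 ∧ (i : ℕ) < 3).card = 1 := by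
    refine Finset.card_eq_one.2 ⟨⟨2, by omega⟩, ?_⟩
    ext i
    simp only [Finset.mem_filter, Finset.mem_univ, true_and, Finset.mem_singleton, Fin.ext_iff]
    omega
  have hhi : (Finset.univ.filter fun i : Fin n => ¬ (i : ℕ) < 3).card = n - 3 := by
    rw [Finset.filter_not, Finset.card_sdiff_of_subset (Finset.filter_subset _ _), h3, Finset.card_univ,
      Fintype.card_fin]
  have hfb : (Finset.univ.filter fun i => d i = b).card = 2 := by
    refine Eq.trans (congrArg Finset.card (Finset.filter_congr fun i _ => ?_)) h2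
    by_cases c1 : (i : ℕ) < 2 <;> by_cases c2 : (i : ℕ) < 3 <;>
      simp only [hd, c1, c2, ↓reduceIte, not_true, not_false_iff, true_and, false_and, and_false] <;> simp [hb1.symm, htb] <;> omega
  have hft : (Finset.univ.filter fun i => d i = t).card = 1 := by
    refine Eq.trans (congrArg Finset.card (Finset.filter_congr fun i _ => ?_)) hmid
    by_cases c1 : (i : ℕ) < 2 <;> by_cases c2 : (i : ℕ) < 3 <;>
      simp only [hd, c1, c2, ↓reduceIte, not_true, not_false_iff, true_and, false_and, and_false] <;> simp [ht1.symm, htb.symm] <;> omega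
  have hf1 : (Finset.univ.filter fun i => d i = 1).card = n - 3 := by
    refine Eq.trans (congrArg Finset.card (Finset.filter_congr fun i _ => ?_)) hhi
    by_cases c1 : (i : ℕ) < 2 <;> by_cases c2 : (i : ℕ) < 3 <;>
      simp only [hd, c1, c2, ↓reduceIte, not_true, not_false_iff, true_and, false_and, and_false] <;> simp [ht1, hb1] <;> omega
  have hfv : ∀ v, v ≠ 1 → v ≠ b → v ≠ t → (Finset.univ.filter fun i => d i = v).card = 0 := fun v e1 e2 e3 => by
    rw [Finset.card_eq_zero, Finset.filter_eq_empty_iff]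
    intro i _
    simp only [hd]
    split_ifs <;> exact fun h => by simp_all
  refine not_allFix_of_diag hQ d ?_ (z := 1) (fun i => ?_) 1 b (by rw [one_pow]; exact hb.symm) one_ne_zero hb0
    ⟨⟨3, by omega⟩, by simp [hd]⟩ ⟨⟨0, by omega⟩, by simp [hd]⟩ (fun v hv => ?_) (fun v hv => ?_)
  · rw [hd, Finset.prod_ite, Finset.prod_const, h2, Finset.prod_ite, Finset.prod_const, Finset.prod_const_one,
      mul_one, Finset.filter_filter, hmid, pow_one, hdet]
  · simp only [hd]; split_ifs
    exacts [hbr, htr, one_pow r]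
  · by_contra h
    rw [hf1] at hv
    rcases eq_or_ne v b with rfl | h'
    · omega
    rcases eq_or_ne v t with rfl | h''
    · omega
    rw [hfv v h h' h''] at hv; omega
  · by_contra h
    rw [hfb] at hv
    rcases eq_or_ne v 1 with rfl | h'
    · omega
    rcases eq_or_ne v t with rfl | h''
    · omega
    rw [hfv v h' h h''] at hv; omega

theorem exists_primitive [Fintype F] [Fact r.Prime] {m : ℕ} (hr : r ^ m ∣ Fintype.card F - 1) :
    ∃ w : F, IsPrimitiveRoot w (r ^ m) := by
  classical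
  obtain ⟨g, hg⟩ := IsCyclic.exists_generator (α := Fˣ)
  have hord : orderOf g = Fintype.card F - 1 := by
    rw [orderOf_eq_card_of_forall_mem_zpowers hg, Nat.card_eq_fintype_card, Fintype.card_units]
  obtain ⟨s, hs⟩ := hr
  have hs0 : s ≠ 0 := by
    rintro rfl
    have := Fintype.one_lt_card (α := F)
    omega
  refine ⟨((g ^ s : Fˣ) : F), IsPrimitiveRoot.coe_units_iff.2 ?_⟩
  have h := IsPrimitiveRoot.orderOf (g ^ s)
  rwa [orderOf_pow_of_dvd hs0 (by rw [hord, hs]; exact dvd_mul_left s _), hord, hs, Nat.mul_div_cancel _ (Nat.pos_of_ne_zero hs0)] at h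

/-- For `r ∣ q - 1` the property needs `n = r ∈ {3, 5}` and `(q - 1)_r = r`. -/
theorem split_neg [Fintype F] [Fact r.Prime] (hr2 : r ≠ 2) (hr : r ∣ Fintype.card F - 1) (hn : 3 ≤ n)
    (hgap : ¬ (n = 6 ∧ r = 3)) {Q : (Fin n → F) → F} (hQ : Cfsg.Geo.IsNondegenerateQuadraticForm Q)
    (h : AllFix Q r) : (r = 3 ∨ r = 5) ∧ n = r ∧ ¬ r ^ 2 ∣ Fintype.card F - 1 := by
  have hrp : r.Prime := Fact.out
  obtain ⟨ζ, hζ⟩ := exists_primitive (F := F) (r := r) (m := 1) (by rwa [pow_one])
  rw [pow_one] at hζ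
  have hne : ∀ m : ℕ, ¬ r ∣ m → ζ ^ m ≠ 1 := fun m hm h1 => hm (hζ.pow_eq_one_iff_dvd m |>.1 h1)
  have hζ0 : ζ ≠ 0 := hζ.ne_zero hrp.ne_zero
  by_cases hdn : r ∣ n
  · by_cases hcase : n = r ∨ n = 2 * r
    · by_cases hsmall : n = r ∧ (r = 3 ∨ r = 5)
      · obtain ⟨rfl, h35⟩ := hsmall
        refine ⟨h35, rfl, fun hsq => ?_⟩
        obtain ⟨w, hw⟩ := exists_primitive (F := F) (r := n) (m := 2) hsq
        have hw0 : w ≠ 0 := hw.ne_zero (pow_ne_zero _ hrp.ne_zero)
        have hω : (w ^ n) ^ n = 1 := by rw [← pow_mul, ← pow_two]; exact hw.pow_eq_one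
        have hω4 : (w ^ n) ^ 4 ≠ 1 := fun h1 => by
          rw [← pow_mul] at h1
          have h4 := (hw.pow_eq_one_iff_dvd _).1 h1
          rw [pow_two] at h4
          have := (Nat.mul_dvd_mul_iff_left hrp.pos).1 h4
          rcases h35 with rfl | rfl <;> norm_num at this
        refine not_allFix_two hQ (k := (n + 1) / 2) (by omega) (by omega) (by omega) w (w * (w ^ n) ^ 2) ?_ ?_ ?_ h
        · intro h1
          refine hω4 (mul_left_cancel₀ (pow_ne_zero 2 hw0) ?_)
          rw [mul_one]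
          linear_combination -h1
        · rcases h35 with rfl | rfl
          · norm_num
            linear_combination hω
          · norm_num
            linear_combination hω
        · rw [mul_pow, ← pow_mul _ 2 n, mul_comm 2 n, pow_mul, hω, one_pow, mul_one]
      · exfalso
        have h5 : 5 ≤ r := by
          have := hrp.two_le
          rcases eq_or_ne r 3 with h3 | h3
          · rcases hcase with e | e
            · exact absurd ⟨e, Or.inl h3⟩ hsmall
            · exact absurd ⟨by omega, h3⟩ hgap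
          · have : r ≠ 4 := fun e => by subst e; norm_num at hrp
            omega
        have h6 : 6 ≤ n := by
          rcases hcase with e | e
          · have : r ≠ 5 := fun e5 => hsmall ⟨e, Or.inr e5⟩
            omega
          · omega
        have hlt : ∀ m : ℕ, 0 < m → m < r → ζ ^ m ≠ 1 := fun m h0 hm =>
          hne m (Nat.not_dvd_of_pos_of_lt h0 hm)
        refine not_allFix_three hQ h6 ζ (ζ ^ 2)⁻¹ (hlt 2 (by omega) (by omega)) ?_ ?_ ?_ hζ.pow_eq_one ?_ h
        · exact inv_ne_one.2 (hlt 2 (by omega) (by omega))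
        · intro h1
          refine hlt 3 (by omega) (by omega) ?_
          rw [pow_succ' ζ 2]
          nth_rewrite 1 [← h1]
          exact inv_mul_cancel₀ (pow_ne_zero 2 hζ0)
        · exact mul_inv_cancel₀ (pow_ne_zero 2 hζ0)
        · rw [inv_pow, ← pow_mul, mul_comm, pow_mul, hζ.pow_eq_one, one_pow, inv_one]
    · exfalso
      push Not at hcase
      have hrn : r ≤ n := Nat.le_of_dvd (by omega) hdn
      refine not_allFix_two hQ (k := r) hrp.pos (by omega) (by omega) ζ 1 ?_ ?_ ?_ h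
      · rw [one_pow]; exact hne 2 fun h2 => hr2 ((Nat.prime_dvd_prime_iff_eq hrp Nat.prime_two).1 h2)
      · rw [hζ.pow_eq_one, one_pow, one_mul]
      · rw [hζ.pow_eq_one, one_pow]
  · exfalso
    refine not_allFix_two hQ (k := n - 1) (by omega) (by omega) (by omega) ζ (ζ ^ (n - 1))⁻¹ ?_ ?_ ?_ h
    · intro h1
      refine hne (2 * n) (fun hd => (hrp.dvd_mul.1 hd).elim
        (fun h2 => hr2 ((Nat.prime_dvd_prime_iff_eq hrp Nat.prime_two).1 h2)) hdn) ?_
      obtain ⟨m, rfl⟩ : ∃ m, n = m + 1 := ⟨n - 1, by omega⟩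
      simp only [Nat.add_sub_cancel] at h1
      rw [show 2 * (m + 1) = 2 + m * 2 by ring, pow_add, pow_mul, h1, inv_pow,
        inv_mul_cancel₀ (pow_ne_zero _ (pow_ne_zero _ hζ0))]
    · rw [show n - (n - 1) = 1 by omega, pow_one, mul_inv_cancel₀ (pow_ne_zero _ hζ0)]
    · rw [inv_pow, ← pow_mul, mul_comm, pow_mul, hζ.pow_eq_one, one_pow, inv_one]

/-- Sorted exponent lists of sum zero are symmetrical up to a cyclic reversal. -/
theorem reverse_three : ∀ a b : Fin 3, a ≤ b → ∀ c : Fin 3, b ≤ c → a + b + c = 0 →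
    ∃ k s : Fin 3, ∀ i, ![a, b, c] i + ![a, b, c] (k - i) = s := by
  decide

theorem reverse_five : ∀ a b : Fin 5, a ≤ b → ∀ c : Fin 5, b ≤ c → ∀ d : Fin 5, c ≤ d → ∀ e : Fin 5, d ≤ e →
    a + b + c + d + e = 0 → ∃ k s : Fin 5, ∀ i, ![a, b, c, d, e] i + ![a, b, c, d, e] (k - i) = s := by
  decide

theorem fixed_three : ∀ k : Fin 3, ∃ i : Fin 3, k - i = i := by decide

theorem fixed_five : ∀ k : Fin 5, ∃ i : Fin 5, k - i = i := by decide

/-- A transvection shows that the property fails for `r = p`. -/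
theorem not_allFix_char {p : ℕ} [Fact p.Prime] [CharP F p] (h2 : (2 : F) ≠ 0) (hn : 3 ≤ n)
    {Q : (Fin n → F) → F} (hQ : Cfsg.Geo.IsNondegenerateQuadraticForm Q) : ¬ AllFix Q p := by
  classical
  intro h
  have h01 : (⟨0, by omega⟩ : Fin n) ≠ ⟨1, by omega⟩ := by simp [Fin.ext_iff]
  set E : Matrix (Fin n) (Fin n) F := Matrix.single (⟨0, by omega⟩ : Fin n) ⟨1, by omega⟩ (1 : F) with hE
  have hEE : E * E = 0 := Matrix.single_mul_single_of_ne _ _ _ _ h01.symm _
  have hpow : ∀ k : ℕ, (1 + E) ^ k = 1 + (k : F) • E := by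
    intro k
    induction k with
    | zero => simp
    | succ k ih =>
      rw [pow_succ, ih, Matrix.add_mul, Matrix.one_mul, Matrix.smul_mul, Matrix.mul_add, Matrix.mul_one, hEE, add_zero,
        Nat.cast_succ, add_smul, one_smul]
      abel
  have hp : (1 + E) ^ p = 1 := by rw [hpow, CharP.cast_eq_zero, zero_smul, add_zero]
  have hd : (1 + E).det = 1 := by
    rw [hE, ← Matrix.transvection]
    exact Matrix.det_transvection_of_ne _ _ h01 _
  let x : GL (Fin n) F := Matrix.GeneralLinearGroup.mkOfDetNeZero (1 + E) (by rw [hd]; exact one_ne_zero)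
  refine not_fix_transvection h2 hn hQ x rfl (h x ?_ ⟨1, ?_⟩ fun z hz => ?_)
  · rw [CfsgLib.Omega.mem_specialLinear]; exact hd
  · rw [Units.val_pow_eq_pow_val, one_smul]; exact hp
  · have h3 := congrFun₂ (show 1 + E = z • (1 : Matrix (Fin n) (Fin n) F) from hz) ⟨0, by omega⟩ ⟨1, by omega⟩
    rw [Matrix.add_apply, Matrix.one_apply_ne h01, hE, Matrix.single_apply_same, zero_add, Matrix.smul_apply,
      Matrix.one_apply_ne h01, smul_zero] at h3
    exact one_ne_zero h3

/-- In dimension `r ∈ {3, 5}` with `(q - 1)_r = r` every element has a similar conjugate. -/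
theorem split_pos [Fintype F] (h2 : (2 : F) ≠ 0) [Fact r.Prime] (h35 : r = 3 ∨ r = 5)
    (hr : r ∣ Fintype.card F - 1) (hsq : ¬ r ^ 2 ∣ Fintype.card F - 1) {Q : (Fin r → F) → F}
    (hQ : Cfsg.Geo.IsNondegenerateQuadraticForm Q) : AllFix Q r := by
  classical
  have hrp : r.Prime := Fact.out
  haveI : NeZero r := ⟨hrp.ne_zero⟩
  rintro x hx ⟨z, hz⟩ -
  rw [Units.val_pow_eq_pow_val] at hz
  rw [CfsgLib.Omega.mem_specialLinear] at hx
  have hodd : Odd r := hrp.odd_of_ne_two (by omega)
  have hzr : z ^ r = 1 := by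
    have := congrArg Matrix.det hz
    rwa [Matrix.det_pow, hx, one_pow, Matrix.det_smul, Fintype.card_fin, Matrix.det_one, mul_one, eq_comm] at this
  have hz1 : z = 1 := by
    by_cases hex : ∃ a : F, a ^ r = z
    · obtain ⟨a, rfl⟩ := hex
      have ha0 : a ≠ 0 := fun h => by simp [h, zero_pow hrp.ne_zero] at hzr
      set u : Fˣ := Units.mk0 a ha0
      have h1 : orderOf u ∣ r ^ 2 := orderOf_dvd_of_pow_eq_one (Units.ext (by
        rw [Units.val_pow_eq_pow_val, pow_two, pow_mul]; exact hzr))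
      have h3 : orderOf u ∣ Fintype.card F - 1 := by
        rw [← Fintype.card_units]; exact orderOf_dvd_card
      obtain ⟨j, hj, hju⟩ := (Nat.dvd_prime_pow hrp).1 h1
      have hj2 : j ≠ 2 := fun e => hsq (by rw [hju, e] at h3; exact h3)
      have h4 : orderOf u ∣ r := by
        rw [hju]
        exact (pow_dvd_pow r (by omega : j ≤ 1)).trans (by rw [pow_one])
      have := congrArg Units.val (orderOf_dvd_iff_pow_eq_one.1 h4)
      rwa [Units.val_pow_eq_pow_val, Units.val_one] at this
    · push Not at hex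
      have hπ : (X ^ r - C z).Monic := monic_X_pow_sub_C _ hrp.ne_zero
      obtain ⟨j, hj, hcard⟩ := charpoly_of_killed hπ (X_pow_sub_C_irreducible_of_prime hrp hex)
        (A := (x : Matrix (Fin r) (Fin r) F)) (by
          rw [map_sub, aeval_X_pow, aeval_C, hz, Algebra.algebraMap_eq_smul_one, sub_self])
      rw [Fintype.card_fin, natDegree_X_pow_sub_C] at hcard
      obtain rfl : j = 1 := Nat.eq_of_mul_eq_mul_right hrp.pos (by rw [one_mul, ← hcard])
      have h1 := Matrix.det_eq_sign_charpoly_coeff (x : Matrix (Fin r) (Fin r) F)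
      rw [hx, hj, pow_one, Fintype.card_fin, hodd.neg_one_pow, coeff_sub, coeff_X_pow, if_neg hrp.ne_zero.symm,
        coeff_C_zero] at h1
      linear_combination -h1
  subst hz1
  obtain ⟨ζ, hζ⟩ := exists_primitive (F := F) (r := r) (m := 1) (by rwa [pow_one])
  rw [pow_one] at hζ
  obtain ⟨b, d, hd, hb⟩ := CfsgLib.Omega.exists_eigenbasis (x : Matrix (Fin r) (Fin r) F) (nthRootsFinset r (1 : F)) (by
    rw [← X_pow_sub_one_eq_prod hrp.pos hζ, map_sub, aeval_X_pow, map_one, hz, one_smul, sub_self])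
  have hde : ∀ i, ∃ e : Fin r, ζ ^ (e : ℕ) = d i := fun i => by
    obtain ⟨e, he, h⟩ := hζ.eq_pow_of_pow_eq_one ((mem_nthRootsFinset hrp.pos (1 : F)).1 (hd i))
    exact ⟨⟨e, he⟩, h⟩
  choose e he using hde
  set π := Tuple.sort e
  have hmono : Monotone (e ∘ π) := Tuple.monotone_sort e
  have hdet : ∏ i, d i = 1 := by
    obtain ⟨g, -, hgd⟩ := CfsgLib.Omega.exists_sl_conj_diagonal x b d hb
    have h1 := congrArg Matrix.det hgd
    rw [Units.val_mul, Units.val_mul, Matrix.det_units_conj', hx, Matrix.det_diagonal] at h1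
    exact h1.symm
  have hpow : ∀ u v : Fin r, ζ ^ (u : ℕ) * ζ ^ (v : ℕ) = ζ ^ ((u + v : Fin r) : ℕ) := fun u v => by
    rw [← pow_add, Fin.val_add, pow_eq_pow_mod _ hζ.pow_eq_one]
  have hsum : ∀ s : Finset (Fin r), ∏ i ∈ s, ζ ^ (e (π i) : ℕ) = ζ ^ ((∑ i ∈ s, e (π i) : Fin r) : ℕ) := by
    intro s
    induction s using Finset.induction_on with
    | empty => simp
    | insert a t ha ih => rw [Finset.prod_insert ha, Finset.sum_insert ha, ih, hpow]
  have hzero : ∑ i, e (π i) = 0 := by
    have h1 : ζ ^ ((∑ i, e (π i) : Fin r) : ℕ) = 1 := by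
      rw [← hsum]
      simp only [he]
      rw [Equiv.prod_comp π d, hdet]
    exact Fin.ext (Nat.eq_zero_of_dvd_of_lt ((hζ.pow_eq_one_iff_dvd _).1 h1) (Fin.is_lt _))
  obtain ⟨k, s, hks⟩ : ∃ k s : Fin r, ∀ i, e (π i) + e (π (k - i)) = s := by
    rcases h35 with rfl | rfl
    · rw [Fin.sum_univ_three] at hzero
      obtain ⟨k, s, h⟩ := reverse_three _ _ (hmono (Fin.le_def.2 (by norm_num) : (0 : Fin 3) ≤ 1)) _
        (hmono (Fin.le_def.2 (by norm_num) : (1 : Fin 3) ≤ 2)) hzero
      refine ⟨k, s, fun i => ?_⟩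
      have hv : ∀ j, e (π j) = ![e (π 0), e (π 1), e (π 2)] j := fun j => by fin_cases j <;> rfl
      rw [hv i, hv (k - i)]
      exact h i
    · rw [Fin.sum_univ_five] at hzero
      obtain ⟨k, s, h⟩ := reverse_five _ _ (hmono (Fin.le_def.2 (by norm_num) : (0 : Fin 5) ≤ 1)) _
        (hmono (Fin.le_def.2 (by norm_num) : (1 : Fin 5) ≤ 2)) _ (hmono (Fin.le_def.2 (by norm_num) : (2 : Fin 5) ≤ 3)) _
        (hmono (Fin.le_def.2 (by norm_num) : (3 : Fin 5) ≤ 4)) hzero
      refine ⟨k, s, fun i => ?_⟩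
      have hv : ∀ j, e (π j) = ![e (π 0), e (π 1), e (π 2), e (π 3), e (π 4)] j := fun j => by fin_cases j <;> rfl
      rw [hv i, hv (k - i)]
      exact h i
  obtain ⟨i₀, hi₀⟩ : ∃ i₀ : Fin r, k - i₀ = i₀ := by
    rcases h35 with rfl | rfl
    exacts [fixed_three k, fixed_five k]
  let σ : Equiv.Perm (Fin r) := ⟨fun i => k - i, fun i => k - i, fun i => sub_sub_cancel k i, fun i => sub_sub_cancel k i⟩
  refine fix_of_eigen h2 hQ x (b.reindex π.symm) (d ∘ π) (fun i => ?_) σ (fun i => sub_sub_cancel k i) i₀ hi₀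
    (c := ζ ^ (s : ℕ)) (pow_ne_zero _ (hζ.ne_zero hrp.ne_zero)) fun i => ?_
  · simp [hb]
  · show d (π i) * d (π (k - i)) = ζ ^ (s : ℕ)
    rw [← he, ← he, hpow, hks]

end CfsgLib.Derangements.SimOrth
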